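import Cfsg.Agent.Lib.PGroup.GradedLieRing

/-!
# Iterated brackets of additive subgroups of a Lie ring

`adIter U Z n` is spanned by `⁅u, z₁, …, zₙ⁆`; `adIter H H` is the lower central series of `H`.
-/

set_option autoImplicit false
set_option linter.unusedSectionVars false

namespace CfsgLib.SpecialGen

open CfsgLib.GradedLie

universe u

variable {L : Type u} [LieRing L]

/-- The subgroup spanned by brackets `⁅u, z₁, …, zₙ⁆`. -/
def adIter (U Z : AddSubgroup L) : ℕ → AddSubgroup L
  | 0 => U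
  | n + 1 => lb (adIter U Z n) Z

theorem adIter_mono {U U' Z Z' : AddSubgroup L} (hU : U ≤ U') (hZ : Z ≤ Z') (n : ℕ) :
    adIter U Z n ≤ adIter U' Z' n := by
  induction n with
  | zero => exact hU
  | succ n ih => exact lb_mono ih hZ

theorem adIter_add (U Z : AddSubgroup L) (a b : ℕ) :
    adIter U Z (a + b) = adIter (adIter U Z a) Z b := by
  induction b with
  | zero => rfl
  | succ b ih => rw [← add_assoc, adIter, ih]; rfl

theorem adIter_succ' (U Z : AddSubgroup L) (n : ℕ) :
    adIter U Z (n + 1) = adIter (lb U Z) Z n := by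
  rw [add_comm, adIter_add]; rfl

/-- Being invariant under bracketing with `Z`. -/
def Inv (U Z : AddSubgroup L) : Prop := ∀ u ∈ U, ∀ z ∈ Z, ⁅u, z⁆ ∈ U

theorem inv_top (Z : AddSubgroup L) : Inv (⊤ : AddSubgroup L) Z := fun _ _ _ _ => AddSubgroup.mem_top _

theorem inv_bot (Z : AddSubgroup L) : Inv (⊥ : AddSubgroup L) Z := fun u hu z _ => by
  rw [AddSubgroup.mem_bot] at hu ⊢
  rw [hu, zero_lie]

theorem adIter_antitone {U Z : AddSubgroup L} (h : Inv U Z) {m n : ℕ} (hmn : m ≤ n) :
    adIter U Z n ≤ adIter U Z m := by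
  have hstep : ∀ n : ℕ, adIter U Z (n + 1) ≤ adIter U Z n := by
    intro n
    induction n with
    | zero => exact lb_le h
    | succ n ihn => exact lb_mono ihn le_rfl
  induction hmn with
  | refl => exact le_rfl
  | step _ ih => exact (hstep _).trans ih

theorem adIter_le {U Z : AddSubgroup L} (h : Inv U Z) (n : ℕ) : adIter U Z n ≤ U :=
  adIter_antitone h n.zero_le

theorem lie_adIter_mem {H : AddSubgroup L} (hH : Closed H) {j : ℕ} :
    ∀ {i : ℕ} {x y : L}, x ∈ adIter H H i → y ∈ adIter H H j → ⁅x, y⁆ ∈ adIter H H (i + j + 1) := by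
  induction j with
  | zero => intro i x y hx hy; exact lie_mem_lb hx hy
  | succ j ih =>
    intro i x y hx hy
    have hle : adIter H H j ≤ H := adIter_le hH j
    induction hy using AddSubgroup.closure_induction with
    | mem z hz =>
      obtain ⟨a, ha, b, hb, rfl⟩ := hz
      have h1 : ⁅⁅x, a⁆, b⁆ ∈ adIter H H (i + j + 1 + 1) := lie_mem_lb (ih hx ha) hb
      have h2 : ⁅⁅x, b⁆, a⁆ ∈ adIter H H (i + 1 + j + 1) := ih (lie_mem_lb hx hb) ha
      rw [leibniz_lie x a b, ← lie_skew a ⁅x, b⁆]
      rw [show i + j + 1 + 1 = i + (j + 1) + 1 by omega] at h1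
      rw [show i + 1 + j + 1 = i + (j + 1) + 1 by omega] at h2
      exact add_mem h1 (neg_mem h2)
    | zero => rw [lie_zero]; exact zero_mem _
    | add u v _ _ iu iv => rw [lie_add]; exact add_mem iu iv
    | neg u _ iu => rw [lie_neg]; exact neg_mem iu

theorem inv_adIter_self {H : AddSubgroup L} (hH : Closed H) (n : ℕ) : Inv (adIter H H n) H :=
  fun u hu z hz => adIter_antitone (show Inv H H from hH) n.le_succ (lie_mem_lb hu hz)

theorem inv_der {H : AddSubgroup L} (hH : Closed H) (n : ℕ) : Inv (der H n) H := by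
  induction n with
  | zero => exact hH
  | succ n ih =>
    intro z hz y hy
    induction hz using AddSubgroup.closure_induction with
    | mem z hz =>
      obtain ⟨a, ha, b, hb, rfl⟩ := hz
      have e : ⁅⁅a, b⁆, y⁆ = ⁅a, ⁅b, y⁆⁆ + ⁅⁅a, y⁆, b⁆ := by
        rw [← lie_skew ⁅a, y⁆ b, ← sub_eq_add_neg, eq_sub_iff_add_eq, leibniz_lie a b y]
      rw [e]
      exact add_mem (lie_mem_lb ha (ih b hb y hy)) (lie_mem_lb (ih a ha y hy) hb)
    | zero => rw [zero_lie]; exact zero_mem _
    | add u v _ _ iu iv => rw [add_lie]; exact add_mem iu iv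
    | neg u _ iu => rw [neg_lie]; exact neg_mem iu

theorem der_le_adIter {H : AddSubgroup L} (hH : Closed H) (n : ℕ) : der H n ≤ adIter H H n := by
  induction n with
  | zero => exact le_rfl
  | succ n ih => exact lb_mono ih (der_le hH n)

theorem lcl_eq_adIter (n : ℕ) : lcl L n = adIter (⊤ : AddSubgroup L) ⊤ n := by
  induction n with
  | zero => rfl
  | succ n ih =>
    show lb (lcl L n) ⊤ = lb (adIter (⊤ : AddSubgroup L) ⊤ n) ⊤
    rw [ih]

end CfsgLib.SpecialGen
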