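import Cfsg.Agent.Lib.PGroup.SpecialGen.Kreknin
import Cfsg.Agent.Lib.PGroup.LieEigenGrading

/-!
# Lie rings with an operator of prime order whose fixed points act nilpotently

After adjoining a `p`-th root of unity the eigenspaces give a grading, to which the generalized
Kreknin theorem applies.
-/

set_option autoImplicit false
set_option linter.style.haveILetI false
set_option linter.unusedSectionVars false

open scoped TensorProduct

namespace CfsgLib.SpecialGen

open CfsgLib.GradedLie (lb lie_mem_lb lb_le lb_mono der Closed)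
open CfsgLib.LieEigen (CycInt)

universe u

variable (p : ℕ) [hp : Fact p.Prime] {L : Type u} [LieRing L]

/-- The extension of scalars of an additive subgroup. -/
noncomputable def tSpan (S : AddSubgroup L) : AddSubgroup (CycInt p ⊗[ℤ] L) :=
  AddSubgroup.closure {z | ∃ a : CycInt p, ∃ x ∈ S, a ⊗ₜ[ℤ] x = z}

theorem tmul_mem_tSpan {S : AddSubgroup L} (a : CycInt p) {x : L} (hx : x ∈ S) :
    a ⊗ₜ[ℤ] x ∈ tSpan p S :=
  AddSubgroup.subset_closure ⟨a, x, hx, rfl⟩

theorem tSpan_mono {S T : AddSubgroup L} (h : S ≤ T) : tSpan p S ≤ tSpan p T :=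
  (AddSubgroup.closure_le _).2 (by rintro _ ⟨a, x, hx, rfl⟩; exact tmul_mem_tSpan p a (h hx))

theorem lb_tSpan_le (S T : AddSubgroup L) : lb (tSpan p S) (tSpan p T) ≤ tSpan p (lb S T) := by
  refine lb_le fun x hx y hy => ?_
  induction hx using AddSubgroup.closure_induction with
  | mem x hx =>
    obtain ⟨a, u, hu, rfl⟩ := hx
    induction hy using AddSubgroup.closure_induction with
    | mem y hy =>
      obtain ⟨b, v, hv, rfl⟩ := hy
      rw [LieAlgebra.ExtendScalars.bracket_tmul]
      exact tmul_mem_tSpan p _ (lie_mem_lb hu hv)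
    | zero => rw [LieEigen.t_lie_zero]; exact zero_mem _
    | add v w _ _ iv iw => rw [LieEigen.t_lie_add]; exact add_mem iv iw
    | neg v _ iv =>
      rw [lie_neg (L := CycInt p ⊗[ℤ] L) (M := CycInt p ⊗[ℤ] L)]
      exact neg_mem iv
  | zero => erw [zero_lie]; exact zero_mem _
  | add v w _ _ iv iw => erw [add_lie]; exact add_mem iv iw
  | neg v _ iv => erw [neg_lie]; exact neg_mem iv

theorem adIter_tSpan_le (U Z : AddSubgroup L) (n : ℕ) :
    adIter (tSpan p U) (tSpan p Z) n ≤ tSpan p (adIter U Z n) := by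
  induction n with
  | zero => exact le_rfl
  | succ n ih => exact (lb_mono ih le_rfl).trans (lb_tSpan_le p _ _)

theorem smul_mem_tSpan {S : AddSubgroup L} (r : CycInt p) {z : CycInt p ⊗[ℤ] L} (hz : z ∈ tSpan p S) :
    r • z ∈ tSpan p S := by
  induction hz using AddSubgroup.closure_induction with
  | mem z hz =>
    obtain ⟨a, x, hx, rfl⟩ := hz
    rw [TensorProduct.smul_tmul']
    exact tmul_mem_tSpan p _ hx
  | zero => rw [smul_zero]; exact zero_mem _
  | add v w _ _ iv iw => rw [smul_add]; exact add_mem iv iw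
  | neg v _ iv => rw [smul_neg]; exact neg_mem iv

theorem ext_mem_tSpan {S : AddSubgroup L} (α : L →+ L) (hS : ∀ x ∈ S, α x ∈ S)
    {z : CycInt p ⊗[ℤ] L} (hz : z ∈ tSpan p S) : LieEigen.ext p α z ∈ tSpan p S := by
  induction hz using AddSubgroup.closure_induction with
  | mem z hz =>
    obtain ⟨a, x, hx, rfl⟩ := hz
    rw [LieEigen.ext_tmul]
    exact tmul_mem_tSpan p _ (hS x hx)
  | zero => rw [map_zero]; exact zero_mem _
  | add v w _ _ iv iw => rw [map_add]; exact add_mem iv iw
  | neg v _ iv => rw [map_neg]; exact neg_mem iv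

/-- The derived length of a subring whose fixed points act nilpotently. -/
theorem der_eq_bot_of_fixed (α : L →+ L) (hlie : ∀ x y, α ⁅x, y⁆ = ⁅α x, α y⁆)
    (hord : ∀ x, (α)^[p] x = x) {n : ℕ} (hco : n.Coprime p) (hn : ∀ x : L, n • x = 0)
    {H Z : AddSubgroup L} (hH : Closed H) (hHα : ∀ x ∈ H, α x ∈ H)
    (hZ : ∀ x ∈ H, α x = x → x ∈ Z) {M : ℕ} (hM : adIter H Z M = ⊥) :
    der H (krBound M (p - 1)) = ⊥ := by
  classical
  haveI : NeZero p := ⟨hp.out.ne_zero⟩
  set β := LieEigen.ext p α with hβ
  have hper : ∀ (m : ℕ) (x : CycInt p ⊗[ℤ] L), β^[m] x = β^[(m : ZMod p).val] x := by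
    intro m x
    rw [ZMod.val_natCast]
    conv_lhs => rw [← Nat.mod_add_div m p, Function.iterate_add_apply]
    congr 1
    rw [Function.iterate_mul]
    exact Function.iterate_fixed (LieEigen.ext_iterate p α hord x) _
  let E : ZMod p → CycInt p ⊗[ℤ] L → CycInt p ⊗[ℤ] L := fun a => β^[a.val]
  have hEadd : ∀ a x y, E a (x + y) = E a x + E a y := by
    intro a x y
    show β^[a.val] (x + y) = β^[a.val] x + β^[a.val] y
    generalize a.val = m
    induction m with
    | zero => rfl
    | succ m ih => simp only [Function.iterate_succ_apply', ih, map_add]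
  have hE1 : ∀ a x, β (E a x) = E (a + 1) x := by
    intro a x
    show β (β^[a.val] x) = β^[(a + 1).val] x
    rw [← Function.iterate_succ_apply' (f := ⇑β), hper, Nat.cast_succ, ZMod.natCast_zmod_val]
  let P : ZMod p → CycInt p ⊗[ℤ] L →+ CycInt p ⊗[ℤ] L := fun i =>
    AddMonoidHom.mk' (fun x => ∑ a : ZMod p, LieEigen.pw p (-(a * i)) • E a x) fun x y => by
      rw [← Finset.sum_add_distrib]
      exact Finset.sum_congr rfl fun a _ => by rw [hEadd, smul_add]
  have hPeig : ∀ i x, β (P i x) = LieEigen.pw p i • P i x := by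
    intro i x
    show β (∑ a : ZMod p, LieEigen.pw p (-(a * i)) • E a x) =
      LieEigen.pw p i • ∑ a : ZMod p, LieEigen.pw p (-(a * i)) • E a x
    rw [map_sum, Finset.smul_sum]
    simp only [map_smul, hE1, smul_smul, ← LieEigen.pw_add]
    exact Fintype.sum_equiv (Equiv.addRight (1 : ZMod p)) _ _ fun a => by
      simp only [Equiv.coe_addRight]
      rw [show i + -((a + 1) * i) = -(a * i) by ring]
  have hPsum : ∀ x, ∑ i : ZMod p, P i x = p • x := by
    intro x
    show ∑ i : ZMod p, ∑ a : ZMod p, LieEigen.pw p (-(a * i)) • E a x = p • x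
    rw [Finset.sum_comm]
    simp only [← Finset.sum_smul]
    have hs : ∀ a : ZMod p, ∑ i : ZMod p, LieEigen.pw p (-(a * i)) =
        if a = 0 then (p : CycInt p) else 0 := by
      intro a
      rw [show (if a = 0 then (p : CycInt p) else 0) = if -a = 0 then (p : CycInt p) else 0 by simp,
        ← LieEigen.sum_pw_mul p (-a)]
      exact Finset.sum_congr rfl fun i _ => by rw [mul_neg, mul_comm]
    simp only [hs]
    rw [Finset.sum_eq_single (0 : ZMod p) (fun a _ ha => by rw [if_neg ha, zero_smul])
      (fun h => absurd (Finset.mem_univ _) h), if_pos rfl]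
    show (p : CycInt p) • β^[(0 : ZMod p).val] x = p • x
    rw [ZMod.val_zero]
    exact Nat.cast_smul_eq_nsmul _ p x
  obtain ⟨v, u, huv⟩ := Nat.isCoprime_iff_coprime.2 hco
  have hu : ∀ x : CycInt p ⊗[ℤ] L, u • (p • x) = x := by
    intro x
    have h0 : (n : ℤ) • x = 0 := by rw [natCast_zsmul]; exact LieEigen.nsmul_eq_zero p hn x
    calc u • (p • x) = (u * (p : ℤ)) • x + (v * (n : ℤ)) • x := by
          rw [mul_smul, mul_smul, h0, smul_zero, add_zero, natCast_zsmul]
      _ = x := by rw [← add_smul, add_comm, huv, one_smul]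
  let Cs : ZMod p → AddSubgroup (CycInt p ⊗[ℤ] L) := fun i =>
    AddMonoidHom.ker (β.toAddMonoidHom -
      (LieEigen.pw p i • (LinearMap.id : CycInt p ⊗[ℤ] L →ₗ[CycInt p] _)).toAddMonoidHom)
  have hmem : ∀ i x, x ∈ Cs i ↔ β x = LieEigen.pw p i • x := fun i x => by
    show β x - LieEigen.pw p i • x = 0 ↔ _
    exact sub_eq_zero
  have hpow : ∀ (j : ZMod p) x, β x = LieEigen.pw p j • x →
      ∀ a, E a x = LieEigen.pw p (a * j) • x := by
    intro j x hx a
    show β^[a.val] x = _
    conv_rhs => rw [← ZMod.natCast_zmod_val a]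
    generalize a.val = m
    induction m with
    | zero => simp [LieEigen.pw_zero]
    | succ m ih =>
      rw [Function.iterate_succ_apply', ih, map_smul, hx, smul_smul, ← LieEigen.pw_add, Nat.cast_succ,
        add_mul, one_mul]
  have hPj : ∀ i j x, x ∈ Cs j → P i x = if i = j then p • x else 0 := by
    intro i j x hx
    show ∑ a : ZMod p, LieEigen.pw p (-(a * i)) • E a x = _
    simp only [hpow j x ((hmem j x).1 hx), smul_smul, ← LieEigen.pw_add, ← Finset.sum_smul]
    rw [show ∑ a : ZMod p, LieEigen.pw p (-(a * i) + a * j) = ∑ a : ZMod p, LieEigen.pw p (a * (j - i))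
      from Finset.sum_congr rfl fun a _ => by ring_nf, LieEigen.sum_pw_mul]
    by_cases hij : i = j
    · rw [if_pos hij, if_pos (sub_eq_zero.2 hij.symm), Nat.cast_smul_eq_nsmul]
    · rw [if_neg hij, if_neg (sub_ne_zero.2 (Ne.symm hij)), zero_smul]
  let gr : Grad p (CycInt p ⊗[ℤ] L) :=
    { C := Cs
      proj := fun i => (u • AddMonoidHom.id _).comp (P i)
      mul := by
        intro i j x hx y hy
        rw [hmem] at hx hy ⊢
        rw [hβ, LieEigen.ext_lie p α hlie, ← hβ, hx, hy]
        rw [LieEigen.t_lie_smul_smul, ← LieEigen.pw_add]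
      proj_self := by
        intro i x hx
        show u • P i x = x
        rw [hPj i i x hx, if_pos rfl, hu]
      proj_ne := by
        intro i j hij x hx
        show u • P i x = 0
        rw [hPj i j x hx, if_neg hij, smul_zero] }
  set HT := tSpan p H with hHT
  have hHTc : Closed HT := fun x hx y hy =>
    tSpan_mono p (lb_le hH) (lb_tSpan_le p H H (lie_mem_lb hx hy))
  have hE : ∀ a, ∀ x ∈ HT, E a x ∈ HT := by
    intro a x hx
    show β^[a.val] x ∈ HT
    generalize a.val = m
    induction m with
    | zero => exact hx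
    | succ m ih => rw [Function.iterate_succ_apply']; exact ext_mem_tSpan p α hHα ih
  have hhom : Homog gr HT := by
    intro x hx
    rw [← hu x, ← hPsum, Finset.smul_sum]
    refine AddSubgroup.sum_mem _ fun i _ => AddSubgroup.mem_iSup_of_mem i
      (AddSubgroup.mem_inf.2 ⟨?_, ?_⟩)
    · refine zsmul_mem ?_ u
      exact AddSubgroup.sum_mem _ fun a _ => smul_mem_tSpan p _ (hE a x hx)
    · exact zsmul_mem ((hmem i _).2 (hPeig i x)) u
  have hzero : HT ⊓ gr.C 0 ≤ tSpan p Z := by
    intro x hx
    obtain ⟨hxH, hx0⟩ := hx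
    have hEzero : ∀ y ∈ HT, ∑ a : ZMod p, E a y ∈ tSpan p Z := by
      intro y hy
      induction hy using AddSubgroup.closure_induction with
      | mem y hy =>
        obtain ⟨r, w, hw, rfl⟩ := hy
        have htm : ∀ m : ℕ, β^[m] (r ⊗ₜ[ℤ] w) = r ⊗ₜ[ℤ] (α^[m] w) := by
          intro m
          induction m with
          | zero => rfl
          | succ m ih =>
            rw [Function.iterate_succ_apply', Function.iterate_succ_apply', ih, hβ, LieEigen.ext_tmul]
        have hs : ∑ a : ZMod p, E a (r ⊗ₜ[ℤ] w) = r ⊗ₜ[ℤ] ∑ a : ZMod p, α^[a.val] w := by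
          rw [TensorProduct.tmul_sum]
          exact Finset.sum_congr rfl fun a _ => htm a.val
        rw [hs]
        have hperα : ∀ m : ℕ, α^[m] w = α^[(m : ZMod p).val] w := by
          intro m
          rw [ZMod.val_natCast]
          conv_lhs => rw [← Nat.mod_add_div m p, Function.iterate_add_apply]
          congr 1
          rw [Function.iterate_mul]
          exact Function.iterate_fixed (hord w) _
        refine tmul_mem_tSpan p r (hZ _ (AddSubgroup.sum_mem _ fun a _ => ?_) ?_)
        · generalize a.val = m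
          induction m with
          | zero => exact hw
          | succ m ih => rw [Function.iterate_succ_apply']; exact hHα _ ih
        · rw [map_sum]
          refine Fintype.sum_equiv (Equiv.addRight (1 : ZMod p)) _ _ fun a => ?_
          rw [Equiv.coe_addRight, ← Function.iterate_succ_apply' (f := ⇑α), hperα, Nat.cast_succ,
            ZMod.natCast_zmod_val]
      | zero =>
        refine AddSubgroup.sum_mem _ fun a _ => ?_
        have : E a 0 = 0 := Function.iterate_fixed (map_zero β) _
        rw [this]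
        exact zero_mem _
      | add y y' _ _ iy iy' =>
        simp only [hEadd, Finset.sum_add_distrib]
        exact add_mem iy iy'
      | neg y _ iy =>
        have : ∀ a, E a (-y) = -E a y := fun a => by
          refine eq_neg_of_add_eq_zero_left ?_
          rw [← hEadd, neg_add_cancel]
          exact Function.iterate_fixed (map_zero β) _
        simp only [this, Finset.sum_neg_distrib]
        exact neg_mem iy
    rw [← hu x]
    refine zsmul_mem ?_ u
    have h0 := hPj 0 0 x hx0
    rw [if_pos rfl] at h0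
    rw [← h0]
    have hP0 : P 0 x = ∑ a : ZMod p, E a x :=
      Finset.sum_congr rfl fun a _ => by rw [mul_zero, neg_zero, LieEigen.pw_zero, one_smul]
    rw [hP0]
    exact hEzero x hxH
  have hMT : adIter HT (HT ⊓ gr.C 0) M = ⊥ := by
    refine eq_bot_iff.2 (((adIter_mono le_rfl hzero M).trans (adIter_tSpan_le p H Z M)).trans ?_)
    rw [hM]
    refine (AddSubgroup.closure_le _).2 ?_
    rintro _ ⟨a, x, hx, rfl⟩
    rw [AddSubgroup.mem_bot] at hx
    rw [hx, TensorProduct.tmul_zero]
    exact zero_mem _
  have hbot := der_eq_bot gr hHTc hhom hMT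
  have hι : ∀ (m : ℕ), ∀ x ∈ der H m, (1 : CycInt p) ⊗ₜ[ℤ] x ∈ der HT m := by
    intro m
    induction m with
    | zero => exact fun x hx => tmul_mem_tSpan p 1 hx
    | succ m ih =>
      intro x hx
      induction hx using AddSubgroup.closure_induction with
      | mem z hz =>
        obtain ⟨a, ha, b, hb, rfl⟩ := hz
        have h := lie_mem_lb (ih a ha) (ih b hb)
        rwa [LieAlgebra.ExtendScalars.bracket_tmul, one_mul] at h
      | zero => rw [TensorProduct.tmul_zero]; exact zero_mem _
      | add a b _ _ ia ib => rw [TensorProduct.tmul_add]; exact add_mem ia ib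
      | neg a _ ia => rw [TensorProduct.tmul_neg]; exact neg_mem ia
  refine eq_bot_iff.2 fun x hx => AddSubgroup.mem_bot.2 (LieEigen.one_tmul_eq_zero p ?_)
  have := hι _ x hx
  rwa [hbot, AddSubgroup.mem_bot] at this

end CfsgLib.SpecialGen
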