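import Cfsg.Agent.Lib.Coprime.Hyperplanes
import Mathlib.GroupTheory.Nilpotent
import Mathlib.GroupTheory.Sylow

/-!
# Group-side tools for fixed points of hyperplanes

Generation by the fixed points of the hyperplanes, and a nilpotency criterion for a solvable
group generated by subgroups whose elements are Engel on all these fixed points.
-/

set_option autoImplicit false
set_option linter.style.haveILetI false
set_option linter.unusedSectionVars false

namespace CfsgLib.SpecialGen

open Subgroup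
open scoped commutatorElement

universe u

/-- A subgroup containing the fixed points of all hyperplanes of `A` on `K` contains `K`. -/
theorem le_of_hyperplane_centralizers_le {X : Type u} [Group X] [Finite X] {p : ℕ} [Fact p.Prime]
    {A K W : Subgroup X} (hA : Cfsg.IsElementaryAbelian p A) (hA2 : p ^ 2 ≤ Nat.card A)
    (hAK : A ≤ normalizer (K : Set X)) (hK : (Nat.card K).Coprime p)
    (hW : ∀ B : Subgroup X, B ≤ A → Nat.card B * p = Nat.card A →
      K ⊓ centralizer (B : Set X) ≤ W) : K ≤ W := by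
  refine CfsgLib.Coprime.le_of_hyperplanes hA hA2
    ((Fact.out (p := p.Prime)).coprime_iff_not_dvd.1 hK.symm) hAK fun E hEA hidx => hW E hEA ?_
  have h := Subgroup.card_mul_index (E.subgroupOf A)
  rw [Nat.card_congr (Subgroup.subgroupOfEquivOfLe hEA).toEquiv] at h
  rw [← hidx]
  exact h

/-- An element of order prime to `r` that is Engel on an element of exponent `r` in a normal
subgroup of exponent `r` centralizes it. -/
theorem commutator_eq_one_of_engel {Q : Type u} [Group Q] {r : ℕ} {V : Subgroup Q} [V.Normal]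
    (hr : ∀ v ∈ V, v ^ r = 1) {σ : Q} (hσ : (orderOf σ).Coprime r) :
    ∀ (n : ℕ) (v : Q), v ∈ V → (fun w => ⁅w, σ⁆)^[n] v = 1 → ⁅v, σ⁆ = 1 := by
  intro n
  induction n with
  | zero =>
    intro v _ h
    rw [Function.iterate_zero_apply] at h
    rw [h, commutatorElement_one_left]
  | succ n ih =>
    intro v hv h
    rw [Function.iterate_succ_apply] at h
    have hv' : ⁅v, σ⁆ ∈ V := by
      have : ⁅v, σ⁆ = v * (σ * v⁻¹ * σ⁻¹) := by rw [commutatorElement_def]; group
      rw [this]
      exact mul_mem hv (‹V.Normal›.conj_mem _ (inv_mem hv) σ)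
    have hc : ⁅⁅v, σ⁆, σ⁆ = 1 := ih _ hv' h
    rw [commutatorElement_eq_one_iff_mul_comm] at hc
    set u := ⁅v, σ⁆⁻¹ with hu
    have hu1 : u = 1 := by
      refine CfsgLib.Coprime.eq_one_of_conj_eq_mul (a := σ) (x := v) ?_ ?_ ?_
      · rw [hu, commutatorElement_def]; group
      · have hc' : Commute ⁅v, σ⁆ σ := hc
        rw [hu, hc'.inv_left.symm.eq, mul_inv_cancel_right]
      · exact Nat.Coprime.coprime_dvd_right (orderOf_dvd_of_pow_eq_one (hr u (inv_mem hv'))) hσ
    exact inv_eq_one.1 hu1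

/-- A solvable group generated by subgroups that are Engel on the fixed points of the hyperplanes
of `A` is nilpotent. -/
theorem isNilpotent_of_engel_generators {X : Type u} [Group X] [Finite X] {p : ℕ} [Fact p.Prime]
    {ι : Type*} {A H : Subgroup X} (S : ι → Subgroup X) (hA : Cfsg.IsElementaryAbelian p A)
    (hA2 : p ^ 2 ≤ Nat.card A) (hAH : A ≤ normalizer (H : Set X))
    (hH : (Nat.card H).Coprime p) (hsol : Group.IsSolvable H) (hgen : ⨆ j, S j = H)
    (_hnil : ∀ j, Group.IsNilpotent (S j)) (n : ℕ)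
    (hEng : ∀ j, ∀ B : Subgroup X, B ≤ A → Nat.card B * p = Nat.card A →
      ∀ u ∈ H ⊓ centralizer (B : Set X), ∀ s ∈ S j, (fun v => ⁅v, s⁆)^[n] u = 1) :
    Group.IsNilpotent H := by
  classical
  -- the last term of the lower central series
  obtain ⟨N, hN⟩ : ∃ N, (⊤ : Subgroup H).lowerCentralSeries N =
      (⊤ : Subgroup H).lowerCentralSeries (N + 1) := by
    by_contra hno
    push Not at hno
    have hstep : ∀ m, Nat.card ((⊤ : Subgroup H).lowerCentralSeries m) + m ≤ Nat.card H := by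
      intro m
      induction m with
      | zero => simpa using Subgroup.card_le_card_group _
      | succ m ih =>
        have hle := (⊤ : Subgroup H).lowerCentralSeries_antitone (Nat.le_succ m)
        have : Nat.card ((⊤ : Subgroup H).lowerCentralSeries (m + 1)) <
            Nat.card ((⊤ : Subgroup H).lowerCentralSeries m) := by
          by_contra hge
          exact hno m (Subgroup.eq_of_le_of_card_ge hle (not_lt.1 hge)).symm
        omega
    have := hstep (Nat.card H + 1)
    omega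
  obtain ⟨R, hR⟩ : ∃ R, R = (⊤ : Subgroup H).lowerCentralSeries N := ⟨_, rfl⟩
  by_cases hRb : R = ⊥
  · exact Subgroup.nilpotent_iff_lowerCentralSeries.2 ⟨N, hR.symm.trans hRb⟩
  exfalso
  have hRH : ⁅R, (⊤ : Subgroup H)⁆ = R := by
    rw [hR]; exact ((⊤ : Subgroup H).lowerCentralSeries_succ N).symm.trans hN.symm
  haveI hRn : R.Normal := by rw [hR]; infer_instance
  have hD : ⁅R, R⁆ < R := by
    refine lt_of_le_of_ne (Subgroup.commutator_le_left R R) fun he => hRb ?_
    haveI := hsol
    obtain ⟨m, hm⟩ := Group.IsSolvable.solvable (G := H)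
    have : ∀ m, R ≤ derivedSeries H m := by
      intro m
      induction m with
      | zero => exact le_top
      | succ m ih => rw [derivedSeries_succ, ← he]; exact Subgroup.commutator_mono ih ih
    exact le_bot_iff.1 ((this m).trans hm.le)
  obtain ⟨W, -, hW⟩ := exists_maximal_ge_of_wellFoundedGT
    (fun Y : Subgroup H => ⁅R, R⁆ ≤ Y ∧ Y < R ∧ Y.Normal) ⁅R, R⁆ ⟨le_rfl, hD, inferInstance⟩
  obtain ⟨hDW, hWR, hWn⟩ := hW.prop
  haveI := hWn
  obtain ⟨f, hf, hfk⟩ : ∃ f : H →* H ⧸ W, Function.Surjective f ∧ f.ker = W :=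
    ⟨QuotientGroup.mk' W, QuotientGroup.mk'_surjective W, QuotientGroup.ker_mk' W⟩
  obtain ⟨V, hV⟩ : ∃ V, V = R.map f := ⟨_, rfl⟩
  haveI hVn : V.Normal := by rw [hV]; exact hRn.map f hf
  have hVb : V ≠ ⊥ := fun h => hWR.not_ge (by
    rw [hV, Subgroup.map_eq_bot_iff, hfk] at h; exact h)
  have hmin : ∀ U : Subgroup (H ⧸ W), U.Normal → U ≤ V → U ≠ ⊥ → U = V := by
    intro U hUn hUV hUb
    haveI := hUn
    have hge : W ≤ U.comap f := hfk.symm.le.trans (Subgroup.ker_le_comap f U)
    have hle : U.comap f ≤ R := by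
      refine (Subgroup.comap_mono hUV).trans ?_
      rw [hV, Subgroup.comap_map_eq, hfk, sup_eq_left.2 hWR.le]
    rcases hle.lt_or_eq with hlt | heq
    · refine absurd ?_ hUb
      have hWe : W = U.comap f := hW.eq_of_le ⟨hDW.trans hge, hlt, inferInstance⟩ hge
      rw [← Subgroup.map_comap_eq_self_of_surjective hf U, ← hWe, Subgroup.map_eq_bot_iff, hfk]
    · rw [← Subgroup.map_comap_eq_self_of_surjective hf U, heq, hV]
  have hVab : ∀ a ∈ V, ∀ b ∈ V, a * b = b * a := by
    intro a ha b hb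
    rw [← commutatorElement_eq_one_iff_mul_comm, ← Subgroup.mem_bot]
    have : ⁅V, V⁆ = ⊥ := by
      rw [hV, ← Subgroup.map_commutator, Subgroup.map_eq_bot_iff, hfk]; exact hDW
    exact this ▸ Subgroup.commutator_mem_commutator ha hb
  have hVc : Nat.card V ≠ 1 := fun h => hVb (Subgroup.eq_bot_of_card_eq V h)
  obtain ⟨r, hr, hrV⟩ := Nat.exists_prime_and_dvd hVc
  haveI : Fact r.Prime := ⟨hr⟩
  have hexp : ∀ v ∈ V, v ^ r = 1 := by
    let Om : Subgroup (H ⧸ W) :=
      { carrier := {v | v ∈ V ∧ v ^ r = 1}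
        one_mem' := ⟨one_mem V, one_pow r⟩
        mul_mem' := fun {a b} ha hb => ⟨mul_mem ha.1 hb.1, by
          rw [(show Commute a b from hVab a ha.1 b hb.1).mul_pow, ha.2, hb.2, one_mul]⟩
        inv_mem' := fun {a} ha => ⟨inv_mem ha.1, by rw [inv_pow, ha.2, inv_one]⟩ }
    have hOn : Om.Normal := ⟨fun v hv g => ⟨hVn.conj_mem v hv.1 g, by rw [conj_pow, hv.2]; group⟩⟩
    have hOb : Om ≠ ⊥ := by
      obtain ⟨v, hv⟩ := exists_prime_orderOf_dvd_card' r hrV
      intro h
      have hmem : (v : H ⧸ W) ∈ Om := ⟨v.2, by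
        rw [← hv, ← Subgroup.orderOf_coe]; exact pow_orderOf_eq_one _⟩
      rw [h, Subgroup.mem_bot] at hmem
      rw [show v = 1 from Subtype.ext hmem, orderOf_one] at hv
      exact hr.ne_one hv.symm
    intro v hv
    exact ((hmin Om hOn (fun _ h => h.1) hOb).ge hv).2
  obtain ⟨C, hC⟩ : ∃ C, C = centralizer (V : Set (H ⧸ W)) := ⟨_, rfl⟩
  haveI hCn : C.Normal := by rw [hC]; exact Subgroup.normal_centralizer
  obtain ⟨g, hg, hgk⟩ : ∃ g : (H ⧸ W) →* (H ⧸ W) ⧸ C, Function.Surjective g ∧ g.ker = C :=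
    ⟨QuotientGroup.mk' C, QuotientGroup.mk'_surjective C, QuotientGroup.ker_mk' C⟩
  haveI hQnil : Group.IsNilpotent ((H ⧸ W) ⧸ C) := by
    refine Subgroup.nilpotent_iff_lowerCentralSeries.2 ⟨N, ?_⟩
    have hs : Function.Surjective (g.comp f) := hg.comp hf
    rw [← Subgroup.map_top_of_surjective _ hs, ← Subgroup.map_lowerCentralSeries, ← hR,
      ← Subgroup.map_map, ← hV, Subgroup.map_eq_bot_iff, hgk, hC]
    exact fun v hv => Subgroup.mem_centralizer_iff.2 fun w hw => hVab w hw v hv
  -- the `r'`-parts centralize `V`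
  have hRX : A ≤ normalizer ((R.map H.subtype : Subgroup X) : Set X) := by
    intro a ha
    have hHa : H.map (MulAut.conj a).toMonoidHom = H := by
      ext x
      constructor
      · rintro ⟨y, hy, rfl⟩
        exact CfsgLib.Coprime.conj_mem_of_le_normalizer hAH ha hy
      · intro hx
        refine ⟨a⁻¹ * x * a, (Subgroup.mem_normalizer_iff''.1 (hAH ha) x).1 hx, ?_⟩
        show a * (a⁻¹ * x * a) * a⁻¹ = x
        group
    have hmap : (R.map H.subtype).map (MulAut.conj a).toMonoidHom = R.map H.subtype := by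
      rw [hR, Subgroup.top_subtype_lowerCentralSeries, Subgroup.map_lowerCentralSeries, hHa]
    rw [Subgroup.mem_normalizer_iff]
    intro x
    constructor
    · intro hx
      exact hmap.le ⟨x, hx, rfl⟩
    · intro hx
      obtain ⟨y, hy, e⟩ := hmap.ge hx
      rwa [show x = y from (MulAut.conj a).injective e.symm]
  have hcent : ∀ j, ∀ t : H, (t : X) ∈ S j → (orderOf t).Coprime r → f t ∈ C := by
    intro j t ht hto
    have hσ : (orderOf (f t)).Coprime r := hto.coprime_dvd_left (orderOf_map_dvd f t)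
    have hle : R.map H.subtype ≤ ((centralizer ({f t} : Set (H ⧸ W))).comap f).map H.subtype := by
      refine le_of_hyperplane_centralizers_le hA hA2 hRX
        (hH.coprime_dvd_left (Subgroup.card_dvd_of_le (Subgroup.map_subtype_le R))) fun B hB hBc => ?_
      rintro x ⟨hx, hxB⟩
      obtain ⟨u, hu, rfl⟩ := hx
      refine ⟨u, ?_, rfl⟩
      have hE := hEng j B hB hBc _ ⟨u.2, hxB⟩ _ ht
      have hit : ∀ m, (fun w => ⁅w, f t⁆)^[m] (f u) = f ((fun w => ⁅w, t⁆)^[m] u) ∧
          (((fun w => ⁅w, t⁆)^[m] u : H) : X) = (fun w => ⁅w, (t : X)⁆)^[m] (u : X) := by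
        intro m
        induction m with
        | zero => exact ⟨rfl, rfl⟩
        | succ m ih =>
          simp only [Function.iterate_succ_apply']
          exact ⟨by rw [ih.1, map_commutatorElement], by
            rw [← ih.2]; exact map_commutatorElement H.subtype _ _⟩
      have h1 : (fun w => ⁅w, f t⁆)^[n] (f u) = 1 := by
        rw [(hit n).1, show (fun w => ⁅w, t⁆)^[n] u = 1 from Subtype.ext ((hit n).2.trans hE),
          map_one]
      have h2 := commutator_eq_one_of_engel hexp hσ n _ (hV ▸ Subgroup.mem_map_of_mem f hu) h1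
      rw [SetLike.mem_coe, Subgroup.mem_comap, Subgroup.mem_centralizer_singleton_iff]
      exact (commutatorElement_eq_one_iff_mul_comm.1 h2)
    rw [hC, Subgroup.mem_centralizer_iff]
    intro v hv
    obtain ⟨u, hu, rfl⟩ := (hV ▸ hv : v ∈ R.map f)
    obtain ⟨u', hu', he⟩ := hle (Subgroup.mem_map_of_mem H.subtype hu)
    rw [← show u' = u from Subtype.ext he]
    exact Subgroup.mem_centralizer_singleton_iff.1 hu'
  -- so the quotient by `C` is an `r`-group
  obtain ⟨P₂⟩ : Nonempty (Sylow r ((H ⧸ W) ⧸ C)) := inferInstance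
  haveI : (P₂ : Subgroup ((H ⧸ W) ⧸ C)).Normal := inferInstance
  have htop : ∀ h : H, g (f h) ∈ (P₂ : Subgroup ((H ⧸ W) ⧸ C)) := by
    intro h
    have hle : H ≤ ((P₂ : Subgroup ((H ⧸ W) ⧸ C)).comap (g.comp f)).map H.subtype := by
      conv_lhs => rw [← hgen]
      refine iSup_le fun j x hx => ?_
      have hxH : x ∈ H := hgen ▸ Subgroup.mem_iSup_of_mem j hx
      refine ⟨⟨x, hxH⟩, ?_, rfl⟩
      set s : H := ⟨x, hxH⟩
      set a := (orderOf s).factorization r
      have hs : g (f (s ^ r ^ a)) = 1 := by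
        rw [← MonoidHom.mem_ker, hgk]
        refine hcent j _ (by simpa using pow_mem (show (s : X) ∈ S j from hx) (r ^ a)) ?_
        rw [orderOf_pow, Nat.gcd_eq_right (Nat.ordProj_dvd _ r)]
        exact (Nat.coprime_ordCompl hr (orderOf_pos s).ne').symm
      have hp : IsPGroup r (Subgroup.zpowers (g (f s))) := by
        rintro ⟨z, k, rfl⟩
        refine ⟨a, Subtype.ext ?_⟩
        show (g (f s) ^ k) ^ r ^ a = 1
        rw [← zpow_natCast, ← zpow_mul, mul_comm, zpow_mul, zpow_natCast]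
        rw [map_pow, map_pow] at hs
        rw [hs, one_zpow]
      obtain ⟨P₃, hP₃⟩ := hp.exists_le_sylow
      haveI := Sylow.unique_of_normal P₂ inferInstance
      rw [SetLike.mem_coe, Subgroup.mem_comap, Subsingleton.elim P₂ P₃]
      exact hP₃ (Subgroup.mem_zpowers _)
    obtain ⟨h', hh', he⟩ := hle h.2
    rw [← show h' = h from Subtype.ext he]
    exact hh'
  have hQr : IsPGroup r ((H ⧸ W) ⧸ C) := by
    intro y
    obtain ⟨h, rfl⟩ := (hg.comp hf) y
    obtain ⟨k, hk⟩ := P₂.2 ⟨g (f h), htop h⟩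
    exact ⟨k, congrArg Subtype.val hk⟩
  -- a fixed point of a Sylow `r`-subgroup in `V`
  obtain ⟨P⟩ : Nonempty (Sylow r (H ⧸ W)) := inferInstance
  have hPC : (P : Subgroup (H ⧸ W)) ⊔ C = ⊤ := by
    rw [← Subgroup.index_eq_one]
    obtain ⟨k, hk⟩ := IsPGroup.iff_card.1 hQr
    have h1 : ((P : Subgroup (H ⧸ W)) ⊔ C).index ∣ r ^ k := by
      rw [← hk, ← Subgroup.index_eq_card]
      exact Subgroup.index_dvd_of_le le_sup_right
    have h2 : ((P : Subgroup (H ⧸ W)) ⊔ C).index ∣ (P : Subgroup (H ⧸ W)).index :=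
      Subgroup.index_dvd_of_le le_sup_left
    obtain ⟨i, -, hi⟩ := (Nat.dvd_prime_pow hr).1 h1
    rcases Nat.eq_zero_or_pos i with h0 | hpos
    · rw [hi, h0, pow_zero]
    · exact absurd ((dvd_pow_self r hpos.ne').trans (hi ▸ h2)) P.not_dvd_index
  have hVp : IsPGroup r V := fun v => ⟨1, Subtype.ext (by
    rw [pow_one]; exact hexp v v.2)⟩
  have hVP : V ≤ (P : Subgroup (H ⧸ W)) :=
    (le_sup_left.trans (P.3 (hVp.to_sup_of_normal_left P.2) le_sup_right).le)
  haveI : Nontrivial (V.subgroupOf (P : Subgroup (H ⧸ W))) := by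
    rw [Subgroup.nontrivial_iff_ne_bot, ne_eq, Subgroup.subgroupOf_eq_bot, disjoint_iff,
      inf_eq_left.2 hVP]
    exact hVb
  obtain ⟨x, hx1, hxV, hxP⟩ : ∃ x : H ⧸ W, x ≠ 1 ∧ x ∈ V ∧
      ∀ y ∈ (P : Subgroup (H ⧸ W)), y * x = x * y := by
    let act : MulAction (P : Subgroup (H ⧸ W)) V :=
      MulAction.compHom _ ((MulAut.conjNormal (H := V)).comp (P : Subgroup (H ⧸ W)).subtype)
    have hone : (1 : V) ∈ @MulAction.fixedPoints (P : Subgroup (H ⧸ W)) V _ act := fun y => by
      apply Subtype.ext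
      show (y : H ⧸ W) * 1 * (y : H ⧸ W)⁻¹ = 1
      group
    obtain ⟨x, hxf, hx⟩ :=
      @IsPGroup.exists_fixed_point_of_prime_dvd_card_of_fixed_point r _ _ P.2 _ V act _ hrV 1 hone
    refine ⟨x, fun h => hx (Subtype.ext h.symm), x.2, fun y hy => ?_⟩
    have h := congrArg Subtype.val (hxf ⟨y, hy⟩)
    exact mul_inv_eq_iff_eq_mul.1 h
  have hxc : x ∈ Subgroup.center (H ⧸ W) := by
    rw [Subgroup.mem_center_iff]
    have hle : (P : Subgroup (H ⧸ W)) ⊔ C ≤ centralizer ({x} : Set (H ⧸ W)) := sup_le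
      (fun y hy => Subgroup.mem_centralizer_singleton_iff.2 (hxP y hy))
      (fun y hy => Subgroup.mem_centralizer_singleton_iff.2
        (Subgroup.mem_centralizer_iff.1 (hC ▸ hy) x hxV).symm)
    intro y
    exact Subgroup.mem_centralizer_singleton_iff.1 (hle (hPC.ge (Subgroup.mem_top y)))
  have hVz : V ≤ Subgroup.center (H ⧸ W) :=
    (hmin (V ⊓ Subgroup.center (H ⧸ W)) inferInstance inf_le_left fun h =>
      hx1 (Subgroup.mem_bot.1 (h ▸ ⟨hxV, hxc⟩))).ge.trans inf_le_right
  refine hWR.not_ge ?_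
  rw [← hRH]
  refine Subgroup.commutator_le.2 fun a ha b _ => ?_
  rw [← hfk, MonoidHom.mem_ker, map_commutatorElement, commutatorElement_eq_one_iff_mul_comm]
  exact (Subgroup.mem_center_iff.1 (hVz (hV ▸ Subgroup.mem_map_of_mem f ha)) (f b)).symm

end CfsgLib.SpecialGen
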