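import Cfsg.Agent.Lib.PGroup.SpecialGen.Basic
import Mathlib.Data.Fintype.BigOperators
import Mathlib.Data.Fintype.Card

/-!
# The pigeonhole bound

A subring spanned by `N` additive subgroups, each acting nilpotently of bounded index, has class
bounded in terms of `N`, the index and the derived length.
-/

set_option autoImplicit false
set_option linter.unusedSectionVars false

namespace CfsgLib.SpecialGen

open CfsgLib.GradedLie

universe u

variable {L : Type u} [LieRing L] {ι : Type} [Fintype ι]

/-- A letter: an element of weight `a.2.1` lying in the member `a.2.2` of the family. -/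
def Letter (H : AddSubgroup L) (Q : ι → AddSubgroup L) (a : L × ℕ × ι) : Prop :=
  1 ≤ a.2.1 ∧ a.1 ∈ Q a.2.2 ∧ a.1 ∈ adIter H H (a.2.1 - 1)

/-- Successive bracketing. -/
def fd (u : L) (l : List (L × ℕ × ι)) : L := l.foldl (fun v a => ⁅v, a.1⁆) u

/-- The total weight. -/
def wtL (l : List (L × ℕ × ι)) : ℕ := (l.map fun a => a.2.1).sum

theorem fd_append (u : L) (s r : List (L × ℕ × ι)) : fd u (s ++ r) = fd (fd u s) r :=
  List.foldl_append

theorem fd_add (u v : L) : ∀ l : List (L × ℕ × ι), fd (u + v) l = fd u l + fd v l := by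
  intro l
  induction l generalizing u v with
  | nil => rfl
  | cons a l ih =>
    show fd ⁅u + v, a.1⁆ l = fd ⁅u, a.1⁆ l + fd ⁅v, a.1⁆ l
    rw [add_lie, ih]

theorem fd_sub (u v : L) : ∀ l : List (L × ℕ × ι), fd (u - v) l = fd u l - fd v l := by
  intro l
  induction l generalizing u v with
  | nil => rfl
  | cons a l ih =>
    show fd ⁅u - v, a.1⁆ l = fd ⁅u, a.1⁆ l - fd ⁅v, a.1⁆ l
    rw [sub_lie, ih]

theorem fd_mem {H U : AddSubgroup L} (hU : Inv U H) :
    ∀ (l : List (L × ℕ × ι)) (u : L), (∀ a ∈ l, a.1 ∈ H) → u ∈ U → fd u l ∈ U := by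
  intro l
  induction l with
  | nil => exact fun _ _ hu => hu
  | cons a l ih =>
    exact fun u h hu => ih _ (fun b hb => h b (List.mem_cons_of_mem a hb))
      (hU u hu a.1 (h a List.mem_cons_self))

theorem fd_mem_adIter {Z U : AddSubgroup L} :
    ∀ (l : List (L × ℕ × ι)) (u : L), (∀ a ∈ l, a.1 ∈ Z) → u ∈ U → fd u l ∈ adIter U Z l.length := by
  intro l
  induction l generalizing U with
  | nil => exact fun _ _ hu => hu
  | cons a l ih =>
    intro u h hu
    rw [List.length_cons, adIter_succ']
    exact ih _ (fun b hb => h b (List.mem_cons_of_mem a hb)) (lie_mem_lb hu (h a List.mem_cons_self))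

open Classical in
/-- Some index occurs often in a long list. -/
theorem exists_frequent {c : ℕ} (l : List (L × ℕ × ι)) (hl : Fintype.card ι * c < l.length) :
    ∃ j : ι, c + 1 ≤ (l.filter fun a => decide (a.2.2 = j)).length := by
  by_contra hno
  push Not at hno
  have hsum : ∑ j : ι, (l.filter fun a => decide (a.2.2 = j)).length = l.length := by
    clear hl hno
    induction l with
    | nil => simp
    | cons a l ih =>
      have : ∀ j : ι, ((a :: l).filter fun b => decide (b.2.2 = j)).length =
          (l.filter fun b => decide (b.2.2 = j)).length + if a.2.2 = j then 1 else 0 := by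
        intro j
        by_cases h : a.2.2 = j <;> simp [List.filter_cons, h]
      simp only [this, Finset.sum_add_distrib, ih, Finset.sum_ite_eq, Finset.mem_univ, if_true,
        List.length_cons]
  have hle : ∑ j : ι, (l.filter fun a => decide (a.2.2 = j)).length ≤ ∑ _j : ι, c :=
    Finset.sum_le_sum fun j _ => by have := hno j; omega
  rw [hsum, Finset.sum_const, Finset.card_univ, smul_eq_mul] at hle
  omega

variable {H U T : AddSubgroup L} {Q : ι → AddSubgroup L} {e c : ℕ}

/-- Long products of letters land in `T`. -/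
theorem fd_mem_of_weight (hH : Closed H) (hU : Inv U H) (hT : Inv T H) (hQ : ∀ j, Q j ≤ H)
    (hspan : ∀ w, adIter H H w ≤ ⨆ j, Q j ⊓ adIter H H w)
    (hhigh : ∀ u ∈ U, ∀ x ∈ adIter H H e, ⁅u, x⁆ ∈ T)
    (hEng : ∀ j, adIter U (Q j) (c + 1) ≤ T) :
    ∀ (k : ℕ) (l : List (L × ℕ × ι)) (u : L), l.length = k → (∀ a ∈ l, Letter H Q a) →
      e * (Fintype.card ι * c) + 1 ≤ wtL l → u ∈ U → fd u l ∈ T := by
  classical
  intro k
  induction k with
  | zero =>
    intro l u hl _ hw _
    rw [List.length_eq_zero_iff] at hl
    subst hl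
    simp [wtL] at hw
  | succ k ih =>
    intro l u hl hitem hw huU
    have hmemH : ∀ a ∈ l, a.1 ∈ H := fun a ha => hQ _ (hitem a ha).2.1
    by_cases hbig : ∃ a ∈ l, e < a.2.1
    · obtain ⟨a, ha, hae⟩ := hbig
      obtain ⟨s, r, rfl⟩ := List.append_of_mem ha
      rw [fd_append]
      refine fd_mem hT r _ (fun b hb => hmemH b (by simp [hb]))
        (hhigh _ (fd_mem hU s u (fun b hb => hmemH b (by simp [hb])) huU) _ ?_)
      exact adIter_antitone (show Inv H H from hH) (by omega)
        (hitem a (List.mem_append_right s List.mem_cons_self)).2.2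
    push Not at hbig
    -- reordering does not matter
    have hperm : ∀ l₁ l₂ : List (L × ℕ × ι), List.Perm l₁ l₂ →
        ∀ a : List (L × ℕ × ι), (a ++ l₁).length = k + 1 → (∀ b ∈ a ++ l₁, Letter H Q b) →
        e * (Fintype.card ι * c) + 1 ≤ wtL (a ++ l₁) →
        (fd u (a ++ l₁) ∈ T ↔ fd u (a ++ l₂) ∈ T) := by
      intro l₁ l₂ h
      induction h with
      | nil => intro a _ _ _; rfl
      | @cons x l₁ l₂ _ ihc =>
        intro a h1 h2 h3
        have e : ∀ m : List (L × ℕ × ι), a ++ x :: m = (a ++ [x]) ++ m := fun m => by simp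
        rw [e l₁, e l₂]
        rw [e l₁] at h1 h2 h3
        exact ihc _ h1 h2 h3
      | swap x y m =>
        intro a h1 h2 h3
        have hx := h2 x (by simp)
        have hy := h2 y (by simp)
        set w' := y.2.1 + x.2.1 with hw'
        have hzH : ⁅y.1, x.1⁆ ∈ adIter H H (w' - 1) := by
          have := lie_adIter_mem hH hy.2.2 hx.2.2
          have e : y.2.1 - 1 + (x.2.1 - 1) + 1 = w' - 1 := by
            have := hy.1; have := hx.1; omega
          rwa [e] at this
        have hlow : fd ⁅fd u a, ⁅y.1, x.1⁆⁆ m ∈ T := by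
          refine AddSubgroup.iSup_induction _ (C := fun v => fd ⁅fd u a, v⁆ m ∈ T) (hspan _ hzH) ?_ ?_ ?_
          · intro j v hv
            have := ih (a ++ (v, w', j) :: m) u (by simp at h1 ⊢; omega) ?_ ?_ huU
            · rwa [fd_append] at this
            · intro b hb
              simp only [List.mem_append, List.mem_cons] at hb
              rcases hb with hb | rfl | hb
              · exact h2 b (by simp [hb])
              · exact ⟨by have := hy.1; show 1 ≤ w'; omega, hv.1, hv.2⟩
              · exact h2 b (by simp [hb])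
            · simp [wtL] at h3 ⊢; omega
          · rw [lie_zero]
            exact fd_mem hT m _ (fun b hb => hQ _ (h2 b (by simp [hb])).2.1) (zero_mem T)
          · intro v v' hv hv'
            rw [lie_add, fd_add]
            exact add_mem hv hv'
        have hdiff : fd u (a ++ y :: x :: m) - fd u (a ++ x :: y :: m) = fd ⁅fd u a, ⁅y.1, x.1⁆⁆ m := by
          rw [fd_append, fd_append]
          show fd ⁅⁅fd u a, y.1⁆, x.1⁆ m - fd ⁅⁅fd u a, x.1⁆, y.1⁆ m = fd ⁅fd u a, ⁅y.1, x.1⁆⁆ m
          rw [← fd_sub, leibniz_lie, ← lie_skew y.1 ⁅fd u a, x.1⁆, sub_eq_add_neg]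
        constructor
        · intro h
          have := sub_mem h (hdiff ▸ hlow)
          rwa [sub_sub_cancel] at this
        · intro h
          have := add_mem (hdiff ▸ hlow) h
          rwa [sub_add_cancel] at this
      | @trans m₁ m₂ m₃ h12 _ i12 i23 =>
        intro a h1 h2 h3
        rw [i12 a h1 h2 h3]
        refine i23 a (by simpa [h12.length_eq] using h1)
          (fun b hb => h2 b ((h12.append_left a).mem_iff.2 hb)) ?_
        have : wtL (a ++ m₂) = wtL (a ++ m₁) := ((h12.append_left a).map _).sum_eq.symm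
        rw [this]; exact h3
    have hlen : Fintype.card ι * c < l.length := by
      have h1 : wtL l ≤ l.length * e := by
        have := List.sum_le_card_nsmul (l.map fun a => a.2.1) e (by
          intro x hx; obtain ⟨a, ha, rfl⟩ := List.mem_map.1 hx; exact hbig a ha)
        simpa [wtL] using this
      by_contra hlt
      have := Nat.mul_le_mul_right e (not_lt.1 hlt)
      rw [mul_comm (Fintype.card ι * c) e] at this
      omega
    obtain ⟨j, hj⟩ := exists_frequent l hlen
    set s := l.filter (fun a => decide (a.2.2 = j)) with hs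
    set r := l.filter (fun a => !decide (a.2.2 = j)) with hr
    have hsr : l.Perm (s ++ r) := (List.filter_append_perm _ l).symm
    rw [show fd u l = fd u ([] ++ l) from rfl,
      hperm l (s ++ r) hsr [] hl (by simpa using hitem) (by simpa using hw)]
    show fd u (s ++ r) ∈ T
    rw [← List.take_append_drop (c + 1) s, List.append_assoc, fd_append]
    refine fd_mem hT _ _ ?_ (hEng j ?_)
    · intro a ha
      refine hmemH a (hsr.mem_iff.2 ?_)
      rcases List.mem_append.1 ha with ha | ha
      · exact List.mem_append_left r (List.mem_of_mem_drop ha)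
      · exact List.mem_append_right s ha
    · have := fd_mem_adIter (Z := Q j) (U := U) (s.take (c + 1)) u ?_ huU
      · rwa [List.length_take, min_eq_left hj] at this
      · intro a ha
        have ha' := List.mem_filter.1 (List.mem_of_mem_take ha)
        have he : a.2.2 = j := by simpa using ha'.2
        exact he ▸ (hitem a ha'.1).2.1

/-- The step of the pigeonhole argument. -/
theorem adIter_le_of_pigeon (hH : Closed H) (hU : Inv U H) (hT : Inv T H) (hQ : ∀ j, Q j ≤ H)
    (hspan : ∀ w, adIter H H w ≤ ⨆ j, Q j ⊓ adIter H H w)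
    (hhigh : ∀ u ∈ U, ∀ x ∈ adIter H H e, ⁅u, x⁆ ∈ T)
    (hEng : ∀ j, adIter U (Q j) (c + 1) ≤ T) :
    adIter U H (e * (Fintype.card ι * c) + 1) ≤ T := by
  have key : ∀ m : ℕ, adIter U H m ≤ AddSubgroup.closure
      {z | ∃ (l : List (L × ℕ × ι)) (u : L), l.length = m ∧ wtL l = m ∧
        (∀ a ∈ l, Letter H Q a) ∧ u ∈ U ∧ fd u l = z} := by
    intro m
    induction m with
    | zero => exact fun u hu => AddSubgroup.subset_closure ⟨[], u, rfl, rfl, by simp, hu, rfl⟩
    | succ m ihm =>
      refine lb_le fun x hx y hy => ?_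
      have hx' := ihm hx
      clear hx
      induction hx' using AddSubgroup.closure_induction with
      | mem z hz =>
        obtain ⟨l, u, hl, hw, hi, huU, rfl⟩ := hz
        refine AddSubgroup.iSup_induction _ (C := fun y => ⁅fd u l, y⁆ ∈ _) (hspan 0 hy) ?_
          (by rw [lie_zero]; exact zero_mem _) ?_
        · intro j b hb
          refine AddSubgroup.subset_closure ⟨l ++ [(b, 1, j)], u, by simp [hl],
            by simp [wtL] at hw ⊢; omega, ?_, huU, ?_⟩
          · intro a ha
            rcases List.mem_append.1 ha with ha | ha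
            · exact hi a ha
            · rw [List.mem_singleton] at ha
              subst ha
              exact ⟨le_rfl, hb.1, hb.2⟩
          · rw [fd_append]; rfl
        · intro a b ha hb; rw [lie_add]; exact add_mem ha hb
      | zero => rw [zero_lie]; exact zero_mem _
      | add a b _ _ ia ib => rw [add_lie]; exact add_mem ia ib
      | neg a _ ia => rw [neg_lie]; exact neg_mem ia
  refine (key _).trans ((AddSubgroup.closure_le _).2 ?_)
  rintro _ ⟨l, u, hl, hw, hi, huU, rfl⟩
  exact fd_mem_of_weight hH hU hT hQ hspan hhigh hEng _ l u hl hi hw.ge huU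

/-- The bound on the class given by a derived length. -/
def pigClass (n : ℕ) : ℕ → ℕ
  | 0 => 0
  | s + 1 => pigClass n s + (pigClass n s * n + 1)

theorem adIter_le_der (hH : Closed H) (hQ : ∀ j, Q j ≤ H)
    (hspan : ∀ w, adIter H H w ≤ ⨆ j, Q j ⊓ adIter H H w)
    (hEng : ∀ j, adIter H (Q j) (c + 1) = ⊥) (s : ℕ) :
    adIter H H (pigClass (Fintype.card ι * c) s) ≤ der H s := by
  induction s with
  | zero => exact le_rfl
  | succ s ih =>
    show adIter H H (pigClass _ s + (pigClass _ s * (Fintype.card ι * c) + 1)) ≤ _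
    rw [adIter_add]
    refine (adIter_mono ih le_rfl _).trans (adIter_le_of_pigeon hH (inv_der hH s) (inv_der hH (s + 1))
      hQ hspan (fun u hu x hx => lie_mem_lb hu (ih hx)) fun j => ?_)
    exact (adIter_mono (der_le hH s) le_rfl _).trans ((hEng j).le.trans bot_le)

end CfsgLib.SpecialGen
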