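import Cfsg.Agent.Lib.PGroup.SpecialGen.Eigen
import Cfsg.Agent.Lib.PGroup.SpecialGen.Pigeon
import Cfsg.Agent.Lib.Coprime.Core
import Mathlib.GroupTheory.Sylow

/-!
# Lie rings with an elementary group of operators and special generators

If a Lie ring annihilated by an integer prime to `p` is acted on by an elementary abelian group `A`
of order `p ^ k`, is spanned by `N` invariant subgroups whose brackets are fixed-point-wise contained
in the family, each acting nilpotently of index `c + 1`, and the fixed points of `A` have class at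
most `e₀`, then its class is bounded in terms of `p`, `k`, `N`, `c` and `e₀`.
-/

set_option autoImplicit false
set_option linter.style.haveILetI false
set_option linter.unusedSectionVars false

namespace CfsgLib.SpecialGen

open CfsgLib.GradedLie (lb lie_mem_lb lb_le lb_mono der Closed)

universe u

section Ideals

variable {L : Type u} [LieRing L]

theorem inv_lb {U V W : AddSubgroup L} (hU : Inv U W) (hV : Inv V W) : Inv (lb U V) W := by
  intro z hz y hy
  induction hz using AddSubgroup.closure_induction with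
  | mem z hz =>
    obtain ⟨a, ha, b, hb, rfl⟩ := hz
    have e : ⁅⁅a, b⁆, y⁆ = ⁅a, ⁅b, y⁆⁆ + ⁅⁅a, y⁆, b⁆ := by
      rw [← lie_skew ⁅a, y⁆ b, ← sub_eq_add_neg, eq_sub_iff_add_eq, leibniz_lie a b y]
    rw [e]
    exact add_mem (lie_mem_lb ha (hV b hb y hy)) (lie_mem_lb (hU a ha y hy) hb)
  | zero => rw [zero_lie]; exact zero_mem _
  | add u v _ _ iu iv => rw [add_lie]; exact add_mem iu iv
  | neg u _ iu => rw [neg_lie]; exact neg_mem iu

theorem inv_adIter {U V W : AddSubgroup L} (hU : Inv U W) (hV : Inv V W) (n : ℕ) :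
    Inv (adIter U V n) W := by
  induction n with
  | zero => exact hU
  | succ n ih => exact inv_lb ih hV

/-- The terms attached to one ideal. -/
def idealTerm (Z J : AddSubgroup L) : ℕ → AddSubgroup L
  | 0 => Z
  | r + 1 => adIter J J r

/-- A sum of `N` ideals of class at most `c` has class at most `N * c`. -/
theorem adIter_sum_ideals_eq_bot {ι : Type} [Fintype ι] {Z : AddSubgroup L} (hZ : Closed Z)
    (J : ι → AddSubgroup L) (hJ : ∀ j, J j ≤ Z) (hInv : ∀ j, Inv (J j) Z) (hsum : Z ≤ ⨆ j, J j)
    {c : ℕ} (hc : ∀ j, adIter (J j) (J j) c = ⊥) :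
    adIter Z Z (Fintype.card ι * c) = ⊥ := by
  classical
  have hInvT : ∀ (j : ι) (r : ℕ), Inv (idealTerm Z (J j) r) Z := by
    intro j r
    cases r with
    | zero => exact hZ
    | succ r => exact inv_adIter (hInv j) (hInv j) r
  have key : ∀ m : ℕ, adIter Z Z m ≤
      ⨆ r : {r : ι → ℕ // ∑ j, r j = m + 1}, ⨅ j, idealTerm Z (J j) (r.1 j) := by
    intro m
    induction m with
    | zero =>
      refine (show adIter Z Z 0 ≤ ⨆ j, J j from hsum).trans (iSup_le fun l => ?_)
      refine le_iSup_of_le ⟨Pi.single l 1, Finset.sum_pi_single' l 1 Finset.univ |>.trans (by simp)⟩ ?_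
      refine le_iInf fun j => ?_
      by_cases hj : j = l
      · subst hj
        simp [idealTerm, adIter]
      · simp [Pi.single_eq_of_ne hj, idealTerm, hJ l]
    | succ m ih =>
      refine lb_le fun x hx y hy => ?_
      refine AddSubgroup.iSup_induction _ (C := fun x => ⁅x, y⁆ ∈ _) (ih hx) ?_
        (by rw [zero_lie]; exact zero_mem _) ?_
      · intro r a ha
        refine AddSubgroup.iSup_induction _ (C := fun y => ⁅a, y⁆ ∈ _) (hsum hy) ?_
          (by rw [lie_zero]; exact zero_mem _) ?_
        · intro l b hb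
          refine AddSubgroup.mem_iSup_of_mem
            ⟨r.1 + Pi.single l 1, by simp [Finset.sum_add_distrib, r.2]⟩ ?_
          · rw [AddSubgroup.mem_iInf]
            intro j
            have haj := AddSubgroup.mem_iInf.1 ha j
            by_cases hj : j = l
            · subst hj
              simp only [Pi.add_apply, Pi.single_eq_same]
              cases hr : r.1 j with
              | zero =>
                rw [hr] at haj
                show ⁅a, b⁆ ∈ adIter (J j) (J j) 0
                rw [← lie_skew]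
                exact neg_mem (hInv j b hb a haj)
              | succ q =>
                rw [hr] at haj
                exact lie_mem_lb haj hb
            · simp only [Pi.add_apply, Pi.single_eq_of_ne hj, add_zero]
              exact hInvT j _ a haj b (hJ l hb)
        · intro b b' hb hb'
          rw [lie_add]
          exact add_mem hb hb'
      · intro a a' ha ha'
        rw [add_lie]
        exact add_mem ha ha'
  refine eq_bot_iff.2 ((key _).trans (iSup_le fun r => ?_))
  obtain ⟨j, hj⟩ : ∃ j, c + 1 ≤ r.1 j := by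
    by_contra hno
    push Not at hno
    have hle : ∑ j, r.1 j ≤ ∑ _j : ι, c := Finset.sum_le_sum fun j _ => by have := hno j; omega
    rw [r.2, Finset.sum_const, Finset.card_univ, smul_eq_mul] at hle
    omega
  refine (iInf_le _ j).trans ?_
  obtain ⟨q, hq⟩ : ∃ q, r.1 j = q + 1 := ⟨r.1 j - 1, by omega⟩
  rw [hq, ← hc j]
  exact adIter_antitone (fun x hx y hy => hInv j x hx y (hJ j hy)) (by omega)

end Ideals

section Action

variable {L : Type u} [LieRing L] {A : Type} [CommGroup A] (act : A →* AddMonoid.End L)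

theorem act_one (x : L) : act 1 x = x := by rw [map_one]; rfl

theorem act_mul (a b : A) (x : L) : act (a * b) x = act a (act b x) := by rw [map_mul]; rfl

/-- The elements fixed by a subgroup of operators. -/
def fixAdd (D : Subgroup A) : AddSubgroup L where
  carrier := {x | ∀ a ∈ D, act a x = x}
  zero_mem' := fun a _ => map_zero (act a)
  add_mem' := fun {x y} hx hy a ha => by rw [map_add, hx a ha, hy a ha]
  neg_mem' := fun {x} hx a ha => by rw [map_neg, hx a ha]

theorem mem_fixAdd {D : Subgroup A} {x : L} : x ∈ fixAdd act D ↔ ∀ a ∈ D, act a x = x := Iff.rfl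

theorem fixAdd_antitone {D D' : Subgroup A} (h : D ≤ D') : fixAdd act D' ≤ fixAdd act D :=
  fun _ hx a ha => hx a (h ha)

theorem act_mem_fixAdd (D : Subgroup A) (b : A) {x : L} (hx : x ∈ fixAdd act D) :
    act b x ∈ fixAdd act D := fun a ha => by
  rw [← act_mul, mul_comm, act_mul, hx a ha]

/-- The operators fixing an element. -/
def stabAdd (x : L) : Subgroup A where
  carrier := {a | act a x = x}
  one_mem' := act_one act x
  mul_mem' := fun {a b} (ha : act a x = x) (hb : act b x = x) => by
    show act (a * b) x = x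
    rw [act_mul, hb, ha]
  inv_mem' := fun {a} (ha : act a x = x) => by
    show act a⁻¹ x = x
    conv_lhs => rw [← ha]
    rw [← act_mul, inv_mul_cancel, act_one]

theorem mem_fixAdd_sup_zpowers {D : Subgroup A} {a : A} {x : L} (hx : x ∈ fixAdd act D)
    (ha : act a x = x) : x ∈ fixAdd act (D ⊔ Subgroup.zpowers a) := fun b hb =>
  (sup_le (show D ≤ stabAdd act x from fun b hb => hx b hb)
    (Subgroup.zpowers_le.2 (show a ∈ stabAdd act x from ha))) hb

theorem closed_fixAdd (hlie : ∀ a x y, act a ⁅x, y⁆ = ⁅act a x, act a y⁆) (D : Subgroup A) :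
    Closed (fixAdd act D) := fun x hx y hy a ha => by rw [hlie, hx a ha, hy a ha]

/-- Invariance under the operators. -/
def ActInv (S : AddSubgroup L) : Prop := ∀ a : A, ∀ x ∈ S, act a x ∈ S

theorem actInv_lb (hlie : ∀ a x y, act a ⁅x, y⁆ = ⁅act a x, act a y⁆) {S T : AddSubgroup L}
    (hS : ActInv act S) (hT : ActInv act T) : ActInv act (lb S T) := by
  intro a z hz
  induction hz using AddSubgroup.closure_induction with
  | mem z hz =>
    obtain ⟨x, hx, y, hy, rfl⟩ := hz
    rw [hlie]
    exact lie_mem_lb (hS a x hx) (hT a y hy)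
  | zero => rw [map_zero]; exact zero_mem _
  | add u v _ _ iu iv => rw [map_add]; exact add_mem iu iv
  | neg u _ iu => rw [map_neg]; exact neg_mem iu

theorem actInv_adIter (hlie : ∀ a x y, act a ⁅x, y⁆ = ⁅act a x, act a y⁆) {S T : AddSubgroup L}
    (hS : ActInv act S) (hT : ActInv act T) (n : ℕ) : ActInv act (adIter S T n) := by
  induction n with
  | zero => exact hS
  | succ n ih => exact actInv_lb act hlie ih hT

theorem actInv_inf {S T : AddSubgroup L} (hS : ActInv act S) (hT : ActInv act T) :
    ActInv act (S ⊓ T) := fun a x hx => ⟨hS a x hx.1, hT a x hx.2⟩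

variable {p : ℕ} [hp : Fact p.Prime] {n : ℕ}

theorem eq_of_coprime_nsmul (hn : ∀ x : L, n • x = 0) {q : ℕ} (hq : n.Coprime q) (x : L) :
    ∃ u : ℤ, u • (q • x) = x := by
  obtain ⟨v, u, huv⟩ := Nat.isCoprime_iff_coprime.2 hq
  refine ⟨u, ?_⟩
  have h0 : (n : ℤ) • x = 0 := by rw [natCast_zsmul]; exact hn x
  calc u • (q • x) = (u * (q : ℤ)) • x + (v * (n : ℤ)) • x := by
        rw [mul_smul, mul_smul, h0, smul_zero, add_zero, natCast_zsmul]
    _ = x := by rw [← add_smul, add_comm, huv, one_smul]

/-- The sum over the powers of an operator. -/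
noncomputable def lineSum (p : ℕ) [Fact p.Prime] (a : A) (x : L) : L :=
  haveI : NeZero p := ⟨(Fact.out : p.Prime).ne_zero⟩
  ∑ j : ZMod p, act (a ^ j.val) x

theorem pow_val_add' {a : A} (ha : a ^ p = 1) (i j : ZMod p) :
    a ^ (i + j).val = a ^ i.val * a ^ j.val := by
  haveI : NeZero p := ⟨hp.out.ne_zero⟩
  rw [← pow_add, ZMod.val_add, ← pow_eq_pow_mod _ ha]

theorem act_lineSum {a : A} (ha : a ^ p = 1) (x : L) :
    act a (lineSum act p a x) = lineSum act p a x := by
  haveI : NeZero p := ⟨hp.out.ne_zero⟩
  unfold lineSum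
  rw [map_sum]
  refine Fintype.sum_equiv (Equiv.addLeft (1 : ZMod p)) _ _ fun j => ?_
  rw [← act_mul, Equiv.coe_addLeft, pow_val_add' ha, ZMod.val_one, pow_one]

theorem lineSum_mem {S : AddSubgroup L} (hS : ActInv act S) (a : A) {x : L} (hx : x ∈ S) :
    lineSum act p a x ∈ S :=
  haveI : NeZero p := ⟨hp.out.ne_zero⟩
  AddSubgroup.sum_mem _ fun _ _ => hS _ x hx

/-- The averaging identity for two operators. -/
theorem nsmul_eq_lineSums {a₁ a₂ : A} (h1 : a₁ ^ p = 1) (h2 : a₂ ^ p = 1) (x : L) :
    haveI : NeZero p := ⟨hp.out.ne_zero⟩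
    p • x = (∑ i : ZMod p, lineSum act p (a₁ * a₂ ^ i.val) x) + lineSum act p a₂ x -
      lineSum act p a₁ (lineSum act p a₂ x) := by
  haveI : NeZero p := ⟨hp.out.ne_zero⟩
  classical
  let f : ZMod p → ZMod p → L := fun j m => act (a₁ ^ j.val * a₂ ^ m.val) x
  have e1 : ∀ i : ZMod p, lineSum act p (a₁ * a₂ ^ i.val) x = ∑ j : ZMod p, f j (i * j) := by
    intro i
    refine Finset.sum_congr rfl fun j _ => ?_
    show act ((a₁ * a₂ ^ i.val) ^ j.val) x = _
    rw [mul_pow, ← pow_mul]
    show _ = act (a₁ ^ j.val * a₂ ^ (i * j).val) x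
    rw [ZMod.val_mul, ← pow_eq_pow_mod _ h2]
  have e2 : lineSum act p a₂ x = ∑ m : ZMod p, f 0 m :=
    Finset.sum_congr rfl fun m _ => by simp [f]
  have e3 : lineSum act p a₁ (lineSum act p a₂ x) = ∑ j : ZMod p, ∑ m : ZMod p, f j m := by
    refine Finset.sum_congr rfl fun j _ => ?_
    show act (a₁ ^ j.val) (lineSum act p a₂ x) = _
    unfold lineSum
    rw [map_sum]
    exact Finset.sum_congr rfl fun m _ => (act_mul act _ _ _).symm
  have e4 : ∀ j : ZMod p, ∑ i : ZMod p, f j (i * j) =
      (∑ m : ZMod p, f j m) + if j = 0 then p • x - ∑ m : ZMod p, f 0 m else 0 := by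
    intro j
    by_cases hj : j = 0
    · subst hj
      simp [f, act_one, ZMod.card]
    · rw [if_neg hj, add_zero]
      exact Fintype.sum_equiv (Equiv.mulRight₀ j hj) _ _ fun i => rfl
  simp only [e1]
  rw [Finset.sum_comm]
  simp only [e4, Finset.sum_add_distrib, Finset.sum_ite_eq', Finset.mem_univ, if_true]
  rw [e3, e2]
  abel

variable [Finite A] (hA : ∀ a : A, a ^ p = 1)

include hA in
theorem card_sup_zpowers {D : Subgroup A} {a : A} (ha : a ∉ D) :
    Nat.card (D ⊔ Subgroup.zpowers a : Subgroup A) = Nat.card D * p := by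
  rw [CfsgLib.Coprime.card_eq_card_mul_card_map_mk' D le_sup_left]
  congr 1
  rw [Subgroup.map_sup, MonoidHom.map_zpowers]
  have hD : D.map (QuotientGroup.mk' D) = ⊥ := by
    rw [Subgroup.map_eq_bot_iff, QuotientGroup.ker_mk']
  rw [hD, bot_sup_eq, Nat.card_zpowers, orderOf_eq_prime (p := p)]
  · rw [← map_pow, hA, map_one]
  · rw [QuotientGroup.mk'_apply, ne_eq, QuotientGroup.eq_one_iff]
    exact ha

include hA in
/-- An invariant subgroup is spanned by its intersections with the fixed points of hyperplanes. -/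
theorem le_iSup_hyperplanes {k : ℕ} (hk : Nat.card A = p ^ k) (hk1 : 1 ≤ k)
    (hn : ∀ x : L, n • x = 0) (hco : n.Coprime p) {S : AddSubgroup L} (hS : ActInv act S) :
    S ≤ ⨆ B : {B : Subgroup A // Nat.card B * p = Nat.card A}, S ⊓ fixAdd act B.1 := by
  haveI : NeZero p := ⟨hp.out.ne_zero⟩
  suffices h : ∀ (m : ℕ) (D : Subgroup A), Nat.card A - Nat.card D ≤ m →
      S ⊓ fixAdd act D ≤ ⨆ B : {B : Subgroup A // Nat.card B * p = Nat.card A}, S ⊓ fixAdd act B.1 by
    refine fun x hx => h (Nat.card A) ⊥ (Nat.sub_le _ _) ⟨hx, fun a ha => ?_⟩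
    rw [Subgroup.mem_bot] at ha
    rw [ha, act_one]
  intro m
  induction m using Nat.strong_induction_on with
  | _ m ih =>
    intro D hm x hx
    by_cases hD : Nat.card D * p = Nat.card A
    · exact AddSubgroup.mem_iSup_of_mem ⟨D, hD⟩ hx
    by_cases hT : D = ⊤
    · obtain ⟨B, hB⟩ := Sylow.exists_subgroup_card_pow_prime (G := A) p
        (n := k - 1) (hk ▸ pow_dvd_pow p (Nat.sub_le k 1))
      have hB' : Nat.card B * p = Nat.card A := by
        rw [hB, hk, ← pow_succ, Nat.sub_add_cancel hk1]
      exact AddSubgroup.mem_iSup_of_mem ⟨B, hB'⟩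
        ⟨hx.1, fixAdd_antitone act (hT ▸ le_top) hx.2⟩
    obtain ⟨a₁, ha₁⟩ : ∃ a, a ∉ D := by
      by_contra h
      push Not at h
      exact hT ((Subgroup.eq_top_iff' D).2 h)
    have hD1 : D ⊔ Subgroup.zpowers a₁ ≠ ⊤ := by
      intro h
      have := card_sup_zpowers (p := p) hA ha₁
      rw [h, Subgroup.card_top] at this
      exact hD this.symm
    obtain ⟨a₂, ha₂⟩ : ∃ a, a ∉ D ⊔ Subgroup.zpowers a₁ := by
      by_contra h
      push Not at h
      exact hD1 ((Subgroup.eq_top_iff' _).2 h)
    -- each line sum is fixed by a larger subgroup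
    have hline : ∀ a : A, a ∉ D → ∀ y ∈ S ⊓ fixAdd act D, lineSum act p a y ∈
        ⨆ B : {B : Subgroup A // Nat.card B * p = Nat.card A}, S ⊓ fixAdd act B.1 := by
      intro a ha y hy
      have hlt : Nat.card A - Nat.card (D ⊔ Subgroup.zpowers a : Subgroup A) < m := by
        have h1 := card_sup_zpowers (p := p) hA ha
        have h2 : Nat.card (D ⊔ Subgroup.zpowers a : Subgroup A) ≤ Nat.card A :=
          Nat.le_of_dvd Nat.card_pos (Subgroup.card_subgroup_dvd_card _)
        have h3 : 0 < Nat.card D := Nat.card_pos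
        have h4 : 2 * Nat.card D ≤ Nat.card D * p := by
          rw [mul_comm 2]; exact Nat.mul_le_mul_left _ hp.out.two_le
        omega
      refine ih _ hlt _ le_rfl ⟨lineSum_mem act hS a hy.1, mem_fixAdd_sup_zpowers act ?_ ?_⟩
      · exact AddSubgroup.sum_mem _ fun _ _ => act_mem_fixAdd act D _ hy.2
      · exact act_lineSum act (hA a) y
    have ha2D : a₂ ∉ D := fun h => ha₂ (Subgroup.mem_sup_left h)
    have ha12 : ∀ i : ZMod p, a₁ * a₂ ^ i.val ∉ D := by
      intro i h
      by_cases hi : i = 0
      · subst hi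
        simp at h
        exact ha₁ h
      have h' : a₂ ^ i.val ∈ D ⊔ Subgroup.zpowers a₁ := by
        have := mul_mem (Subgroup.mem_sup_right (inv_mem (Subgroup.mem_zpowers a₁)) :
          a₁⁻¹ ∈ D ⊔ Subgroup.zpowers a₁) (Subgroup.mem_sup_left h)
        simpa using this
      refine ha₂ ?_
      have h'' := pow_mem h' i⁻¹.val
      have e : a₂ = a₂ ^ (i * i⁻¹).val := by rw [mul_inv_cancel₀ hi, ZMod.val_one, pow_one]
      rw [e, ZMod.val_mul, ← pow_eq_pow_mod _ (hA a₂), pow_mul]
      exact h''
    obtain ⟨u, hu⟩ := eq_of_coprime_nsmul hn hco x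
    rw [← hu, nsmul_eq_lineSums act (hA a₁) (hA a₂) x]
    refine zsmul_mem (sub_mem (add_mem (AddSubgroup.sum_mem _ fun i _ => hline _ (ha12 i) x hx)
      (hline a₂ ha2D x hx)) (hline a₁ ha₁ _ ⟨lineSum_mem act hS a₂ hx.1, ?_⟩)) u
    exact AddSubgroup.sum_mem _ fun _ _ => act_mem_fixAdd act D _ hx.2

/-- The class bounds along the chain of fixed subrings. -/
def chainBound (p M e₀ : ℕ) : ℕ → ℕ
  | 0 => e₀
  | i + 1 => pigClass M (krBound (chainBound p M e₀ i * M + 1) (p - 1))

include hA in
/-- The main bound on the class of the Lie ring. -/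
theorem lcl_eq_bot_of_special {k : ℕ} (hk : Nat.card A = p ^ k) (hk1 : 1 ≤ k)
    (hlie : ∀ a x y, act a ⁅x, y⁆ = ⁅act a x, act a y⁆) (hn : ∀ x : L, n • x = 0) (hco : n.Coprime p)
    {ι : Type} [Fintype ι] (P : ι → AddSubgroup L) (hP : ∀ j, ActInv act (P j))
    (hPtop : ⊤ ≤ ⨆ j, P j)
    (hclose : ∀ i j, ∀ B : Subgroup A, Nat.card B * p = Nat.card A →
      ∃ l, lb (P i) (P j) ⊓ fixAdd act B ≤ P l)
    {c : ℕ} (hEng : ∀ j, adIter (⊤ : AddSubgroup L) (P j) (c + 1) = ⊥) {e₀ : ℕ}
    (he₀ : adIter (fixAdd act (⊤ : Subgroup A)) (fixAdd act ⊤) e₀ = ⊥) :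
    GradedLie.lcl L (chainBound p (Fintype.card ι * c) e₀ k) = ⊥ := by
  classical
  haveI : Fintype A := Fintype.ofFinite A
  -- the spanning property of every fixed subring
  have hspan : ∀ (D : Subgroup A) (w : ℕ), adIter (fixAdd act D) (fixAdd act D) w ≤
      ⨆ j, (P j ⊓ fixAdd act D) ⊓ adIter (fixAdd act D) (fixAdd act D) w := by
    intro D w
    have hH : Closed (fixAdd act D) := closed_fixAdd act hlie D
    have hHact : ActInv act (fixAdd act D) := fun b _ hx => act_mem_fixAdd act D b hx
    induction w with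
    | zero =>
      intro x hx
      obtain ⟨u, hu⟩ := eq_of_coprime_nsmul hn (q := Nat.card D) (by
        refine Nat.Coprime.coprime_dvd_right (Subgroup.card_subgroup_dvd_card D) ?_
        rw [hk]
        exact hco.pow_right k) x
      rw [← hu]
      refine zsmul_mem ?_ u
      have e : Nat.card D • x = ∑ d : D, act (d : A) x := by
        rw [Finset.sum_congr rfl fun (d : D) _ => hx (d : A) d.2, Finset.sum_const, Finset.card_univ,
          Nat.card_eq_fintype_card]
      rw [e]
      clear e hu hx
      refine AddSubgroup.iSup_induction _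
        (C := fun x => ∑ d : D, act (d : A) x ∈ ⨆ j, (P j ⊓ fixAdd act D) ⊓ _)
        (hPtop (AddSubgroup.mem_top x)) ?_ ?_ ?_
      · intro j y hy
        have hfix : ∑ d : D, act (d : A) y ∈ fixAdd act D := by
          intro b hb
          rw [map_sum]
          refine Fintype.sum_equiv (Equiv.mulLeft (⟨b, hb⟩ : D)) _ _ fun d => ?_
          rw [← act_mul]
          rfl
        exact AddSubgroup.mem_iSup_of_mem j
          ⟨⟨AddSubgroup.sum_mem _ fun d _ => hP j _ y hy, hfix⟩, hfix⟩
      · simp
      · intro a b ha hb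
        simp only [map_add, Finset.sum_add_distrib]
        exact add_mem ha hb
    | succ w ih =>
      refine lb_le fun x hx y hy => ?_
      refine AddSubgroup.iSup_induction _ (C := fun x => ⁅x, y⁆ ∈ _) (ih hx) ?_
        (by rw [zero_lie]; exact zero_mem _) ?_
      · intro i a ha
        have hspan0 : fixAdd act D ≤ ⨆ j, P j ⊓ fixAdd act D := by
          intro z hz
          obtain ⟨u, hu⟩ := eq_of_coprime_nsmul hn (q := Nat.card D) (by
            refine Nat.Coprime.coprime_dvd_right (Subgroup.card_subgroup_dvd_card D) ?_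
            rw [hk]
            exact hco.pow_right k) z
          rw [← hu]
          refine zsmul_mem ?_ u
          have e : Nat.card D • z = ∑ d : D, act (d : A) z := by
            rw [Finset.sum_congr rfl fun (d : D) _ => hz (d : A) d.2, Finset.sum_const,
              Finset.card_univ, Nat.card_eq_fintype_card]
          rw [e]
          clear e hu hz
          refine AddSubgroup.iSup_induction _
            (C := fun z => ∑ d : D, act (d : A) z ∈ ⨆ j, P j ⊓ fixAdd act D)
            (hPtop (AddSubgroup.mem_top z)) ?_ ?_ ?_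
          · intro j v hv
            refine AddSubgroup.mem_iSup_of_mem j ⟨AddSubgroup.sum_mem _ fun d _ => hP j _ v hv, ?_⟩
            intro b hb
            rw [map_sum]
            refine Fintype.sum_equiv (Equiv.mulLeft (⟨b, hb⟩ : D)) _ _ fun d => ?_
            rw [← act_mul]
            rfl
          · simp
          · intro v v' hv hv'
            simp only [map_add, Finset.sum_add_distrib]
            exact add_mem hv hv'
        refine AddSubgroup.iSup_induction _ (C := fun y => ⁅a, y⁆ ∈ _) (hspan0 hy) ?_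
          (by rw [lie_zero]; exact zero_mem _) ?_
        · intro j b hb
          set S := lb (P i) (P j) ⊓ adIter (fixAdd act D) (fixAdd act D) (w + 1) with hS
          have hab : ⁅a, b⁆ ∈ S := ⟨lie_mem_lb ha.1.1 hb.1, lie_mem_lb ha.2 hb.2⟩
          refine (le_iSup_hyperplanes act hA hk hk1 hn hco (actInv_inf act (actInv_lb act hlie (hP i)
            (hP j)) (actInv_adIter act hlie hHact hHact _))).trans (iSup_le fun B => ?_) hab
          obtain ⟨l, hl⟩ := hclose i j B.1 B.2
          intro z hz
          exact AddSubgroup.mem_iSup_of_mem l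
            ⟨⟨hl ⟨hz.1.1, hz.2⟩, adIter_le hH _ hz.1.2⟩, hz.1.2⟩
        · intro b b' hb hb'; rw [lie_add]; exact add_mem hb hb'
      · intro a a' ha ha'; rw [add_lie]; exact add_mem ha ha'
  have main : ∀ (i : ℕ) (D : Subgroup A), Nat.card D * p ^ i = Nat.card A →
      adIter (fixAdd act D) (fixAdd act D) (chainBound p (Fintype.card ι * c) e₀ i) = ⊥ := by
    intro i
    induction i with
    | zero =>
      intro D hD
      rw [pow_zero, mul_one] at hD
      rw [Subgroup.eq_top_of_card_eq D hD]
      exact he₀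
    | succ i ih =>
      intro D hD
      obtain ⟨a, ha⟩ : ∃ a, a ∉ D := by
        by_contra h
        push Not at h
        rw [(Subgroup.eq_top_iff' D).2 h, Subgroup.card_top] at hD
        have h1 : 1 < p ^ (i + 1) := Nat.one_lt_pow (Nat.succ_ne_zero i) hp.out.one_lt
        have h2 : 0 < Nat.card A := Nat.card_pos
        nlinarith
      set D₁ := D ⊔ Subgroup.zpowers a with hD₁
      have hcard : Nat.card D₁ * p ^ i = Nat.card A := by
        rw [card_sup_zpowers (p := p) hA ha, ← hD, pow_succ]; ring
      set H := fixAdd act D with hH'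
      set Z := fixAdd act D₁ with hZ'
      set M := chainBound p (Fintype.card ι * c) e₀ i * (Fintype.card ι * c) + 1 with hM
      have hZc : Closed Z := closed_fixAdd act hlie D₁
      have hstep : adIter (⊤ : AddSubgroup L) Z M ≤ ⊥ :=
        adIter_le_of_pigeon (Q := fun j => P j ⊓ Z) hZc (inv_top Z) (inv_bot Z)
          (fun j => inf_le_right) (hspan D₁)
          (fun u _ x hx => by
            rw [ih D₁ hcard, AddSubgroup.mem_bot] at hx
            rw [hx, lie_zero]
            exact zero_mem _)
          (fun j => (adIter_mono le_rfl inf_le_left _).trans (hEng j).le)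
      have hder : der H (krBound M (p - 1)) = ⊥ :=
        der_eq_bot_of_fixed p (act a) (fun x y => hlie a x y)
          (fun x => by
            have h : ∀ m : ℕ, (act a)^[m] x = act (a ^ m) x := by
              intro m
              induction m with
              | zero => rw [pow_zero, act_one]; rfl
              | succ m ihm => rw [Function.iterate_succ_apply', ihm, pow_succ', act_mul]
            exact (h p).trans (by rw [hA, act_one]))
          hco hn (closed_fixAdd act hlie D) (fun x hx => act_mem_fixAdd act D a hx)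
          (fun x hx hax => mem_fixAdd_sup_zpowers act hx hax)
          (eq_bot_iff.2 ((adIter_mono le_top le_rfl M).trans hstep))
      refine eq_bot_iff.2 ?_
      refine (adIter_le_der (Q := fun j => P j ⊓ H) (c := c) (closed_fixAdd act hlie D)
        (fun j => inf_le_right) (hspan D) (fun j => ?_) (krBound M (p - 1))).trans hder.le
      exact eq_bot_iff.2 ((adIter_mono le_top inf_le_left _).trans (hEng j).le)
  have hbot : fixAdd act (⊥ : Subgroup A) = ⊤ := eq_top_iff.2 fun x _ a ha => by
    rw [Subgroup.mem_bot] at ha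
    rw [ha, act_one]
  have := main k ⊥ (by rw [Subgroup.card_bot, one_mul, hk])
  rw [hbot] at this
  rw [lcl_eq_adIter]
  exact this

end Action

end CfsgLib.SpecialGen
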