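import Cfsg.Agent.Lib.PGroup.AssociatedLieRing
import Cfsg.Agent.Lib.PGroup.SpecialGen.LieMain
import Cfsg.Agent.Lib.PGroup.SpecialGen.GroupTools
import Cfsg.Agent.Lib.Coprime.Action
import Cfsg.Prelude.Def_Transfer

/-!
# From special subgroups to the associated Lie ring

A subgroup `H` acted on coprimely by an elementary abelian group and generated by a bounded family of
invariant subgroups with the closure and commutator properties of special subgroups is nilpotent of
bounded class.
-/

set_option autoImplicit false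
set_option linter.style.haveILetI false
set_option linter.unusedSectionVars false

open Subgroup
open scoped commutatorElement

namespace CfsgLib.SpecialGen

open CfsgLib.GradedLie (lb lie_mem_lb lb_le lb_mono Closed)
open CfsgLib.GrLie

variable {X : Type} [Group X]

open Classical in
/-- The homogeneous element of degree `q` of the Lie ring of `H`, for an element of the ambient group. -/
noncomputable def elX (H : Subgroup X) (q : ℕ) (z : X) : GrRing ↥H :=
  if h : z ∈ H then el q ⟨z, h⟩ else 0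

variable {H : Subgroup X}

theorem mem_γ_iff {q : ℕ} {g : ↥H} : g ∈ γ ↥H q ↔ (g : X) ∈ H.lowerCentralSeries q := by
  rw [← Subgroup.top_subtype_lowerCentralSeries H q]
  constructor
  · exact fun h => mem_map_of_mem _ h
  · rintro ⟨g', hg', e⟩
    rwa [← Subtype.ext (a1 := g') e]

theorem elX_eq {q : ℕ} {z : X} (h : z ∈ H) : elX H q z = el q (⟨z, h⟩ : ↥H) := dif_pos h

theorem elX_one (q : ℕ) : elX H q (1 : X) = 0 := by
  rw [elX_eq (one_mem H)]
  exact el_one q

theorem elX_mul {q : ℕ} {y z : X} (hy : y ∈ H.lowerCentralSeries q) (hz : z ∈ H.lowerCentralSeries q) :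
    elX H q (y * z) = elX H q y + elX H q z := by
  have hy' := Subgroup.lowerCentralSeries_le_self H q hy
  have hz' := Subgroup.lowerCentralSeries_le_self H q hz
  rw [elX_eq hy', elX_eq hz', elX_eq (mul_mem hy' hz'),
    ← el_mul (mem_γ_iff.2 (by exact hy)) (mem_γ_iff.2 (by exact hz))]
  rfl

theorem elX_inv {q : ℕ} {y : X} (hy : y ∈ H.lowerCentralSeries q) : elX H q y⁻¹ = -elX H q y :=
  eq_neg_of_add_eq_zero_left (by rw [← elX_mul (inv_mem hy) hy, inv_mul_cancel, elX_one])

theorem elX_eq_zero_iff {q : ℕ} {y : X} (hy : y ∈ H.lowerCentralSeries q) :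
    elX H q y = 0 ↔ y ∈ H.lowerCentralSeries (q + 1) := by
  rw [elX_eq (Subgroup.lowerCentralSeries_le_self H q hy), el_eq_zero_iff (mem_γ_iff.2 (by exact hy)), mem_γ_iff]

theorem lie_elX {i j : ℕ} {y z : X} (hy : y ∈ H.lowerCentralSeries i) (hz : z ∈ H.lowerCentralSeries j) :
    (⁅elX H i y, elX H j z⁆ : GrRing ↥H) = elX H (i + j + 1) ⁅y, z⁆ ∧
      ⁅y, z⁆ ∈ H.lowerCentralSeries (i + j + 1) := by
  have hy' := Subgroup.lowerCentralSeries_le_self H i hy
  have hz' := Subgroup.lowerCentralSeries_le_self H j hz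
  have h1 : (⟨y, hy'⟩ : ↥H) ∈ γ ↥H i := mem_γ_iff.2 hy
  have h2 : (⟨z, hz'⟩ : ↥H) ∈ γ ↥H j := mem_γ_iff.2 hz
  have h3 : ⁅y, z⁆ ∈ H.lowerCentralSeries (i + j + 1) := mem_γ_iff.1 (comm_mem h1 h2)
  refine ⟨?_, h3⟩
  rw [elX_eq hy', elX_eq hz', lie_el h1 h2, elX_eq (Subgroup.lowerCentralSeries_le_self H _ h3)]
  rfl

variable (H) in
/-- The span of the homogeneous elements given by a subgroup. -/
noncomputable def gs (T : Subgroup X) : AddSubgroup (GrRing ↥H) :=
  AddSubgroup.closure {x | ∃ q : ℕ, ∃ z ∈ T, z ∈ H.lowerCentralSeries q ∧ elX H q z = x}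

theorem elX_mem_gs {T : Subgroup X} {q : ℕ} {z : X} (hz : z ∈ T) (hzq : z ∈ H.lowerCentralSeries q) :
    elX H q z ∈ gs H T :=
  AddSubgroup.subset_closure ⟨q, z, hz, hzq, rfl⟩

theorem gs_mono {T T' : Subgroup X} (h : T ≤ T') : gs H T ≤ gs H T' :=
  (AddSubgroup.closure_le _).2 (by rintro _ ⟨q, z, hz, hzq, rfl⟩; exact elX_mem_gs (h hz) hzq)

theorem gs_bot : gs H (⊥ : Subgroup X) = ⊥ := by
  refine eq_bot_iff.2 ((AddSubgroup.closure_le _).2 ?_)
  rintro _ ⟨q, z, hz, -, rfl⟩
  rw [mem_bot] at hz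
  subst hz
  rw [elX_one]
  exact zero_mem _

theorem gs_self : gs H H = ⊤ := by
  refine eq_top_iff.2 fun x hx => ?_
  clear hx
  induction x using induction_el with
  | h0 => exact zero_mem _
  | hel q g hg =>
    rw [show el q g = elX H q (g : X) from (elX_eq g.2).symm]
    exact elX_mem_gs g.2 (mem_γ_iff.1 hg)
  | hadd x y hx hy => exact add_mem hx hy

theorem lb_gs_le (S T : Subgroup X) : lb (gs H S) (gs H T) ≤ gs H ⁅S, T⁆ := by
  refine lb_le fun x hx y hy => ?_
  induction hx using AddSubgroup.closure_induction with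
  | mem x hx =>
    obtain ⟨i, a, ha, hai, rfl⟩ := hx
    induction hy using AddSubgroup.closure_induction with
    | mem y hy =>
      obtain ⟨j, b, hb, hbj, rfl⟩ := hy
      rw [(lie_elX hai hbj).1]
      exact elX_mem_gs (commutator_mem_commutator ha hb) (lie_elX hai hbj).2
    | zero => rw [lie_zero]; exact zero_mem _
    | add u v _ _ iu iv => rw [lie_add]; exact add_mem iu iv
    | neg u _ iu => rw [lie_neg]; exact neg_mem iu
  | zero => rw [zero_lie]; exact zero_mem _
  | add u v _ _ iu iv => rw [add_lie]; exact add_mem iu iv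
  | neg u _ iu => rw [neg_lie]; exact neg_mem iu

theorem adIter_gs_le (T : Subgroup X) (m : ℕ) :
    adIter (gs H T) (gs H T) m ≤ gs H (T.lowerCentralSeries m) := by
  induction m with
  | zero => exact le_rfl
  | succ m ih => exact (lb_mono ih le_rfl).trans (lb_gs_le _ _)

/-! ### The action -/

variable {A : Subgroup X}

/-- Conjugation restricted to an invariant subgroup. -/
def conjRes (hAH : A ≤ normalizer (H : Set X)) (a : ↥A) : ↥H →* ↥H where
  toFun h := ⟨(a : X) * h * (a : X)⁻¹, CfsgLib.Coprime.conj_mem_of_le_normalizer hAH a.2 h.2⟩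
  map_one' := Subtype.ext (by simp)
  map_mul' := fun h h' => Subtype.ext (by simp [mul_assoc])

/-- The action on the Lie ring. -/
noncomputable def conjAct (hAH : A ≤ normalizer (H : Set X)) : ↥A →* AddMonoid.End (GrRing ↥H) where
  toFun a := grMap (conjRes hAH a)
  map_one' := by
    refine AddMonoidHom.ext fun x => ?_
    show grMap (conjRes hAH 1) x = x
    have e : conjRes hAH 1 = MonoidHom.id ↥H :=
      MonoidHom.ext fun h => Subtype.ext (by simp [conjRes])
    rw [e, grMap_id]
  map_mul' := fun a b => by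
    refine AddMonoidHom.ext fun x => ?_
    show grMap (conjRes hAH (a * b)) x = grMap (conjRes hAH a) (grMap (conjRes hAH b) x)
    have e : conjRes hAH (a * b) = (conjRes hAH a).comp (conjRes hAH b) :=
      MonoidHom.ext fun h => Subtype.ext (by simp [conjRes, mul_assoc])
    rw [grMap_comp, e]

theorem conjAct_elX (hAH : A ≤ normalizer (H : Set X)) (a : ↥A) {q : ℕ} {z : X}
    (hz : z ∈ H.lowerCentralSeries q) :
    conjAct hAH a (elX H q z) = elX H q ((a : X) * z * (a : X)⁻¹) ∧
      (a : X) * z * (a : X)⁻¹ ∈ H.lowerCentralSeries q := by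
  have hz' := Subgroup.lowerCentralSeries_le_self H q hz
  have h1 : (⟨z, hz'⟩ : ↥H) ∈ γ ↥H q := mem_γ_iff.2 hz
  have h2 := mem_γ_iff.1 (map_γ_le (conjRes hAH a) q h1)
  refine ⟨?_, h2⟩
  show grMap (conjRes hAH a) (elX H q z) = _
  rw [elX_eq hz', grMap_el _ h1]
  exact (elX_eq (H := H) (conjRes hAH a ⟨z, hz'⟩).2).symm

theorem conjAct_lie (hAH : A ≤ normalizer (H : Set X)) (a : ↥A) (x y : GrRing ↥H) :
    conjAct hAH a ⁅x, y⁆ = ⁅conjAct hAH a x, conjAct hAH a y⁆ :=
  grMap_lie _ x y

theorem le_normalizer_lcs (hAH : A ≤ normalizer (H : Set X)) (q : ℕ) :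
    A ≤ normalizer (H.lowerCentralSeries q : Set X) := by
  intro a ha
  rw [Subgroup.mem_normalizer_iff]
  intro z
  constructor
  · exact fun hz => (conjAct_elX hAH ⟨a, ha⟩ hz).2
  · intro hz
    have := (conjAct_elX hAH ⟨a⁻¹, inv_mem ha⟩ hz).2
    simpa [mul_assoc] using this

variable [Finite X] {p k : ℕ} [hp : Fact p.Prime]

section Elementary

variable [IsMulCommutative A]

open scoped IsMulCommutative

theorem actInv_gs (hAH : A ≤ normalizer (H : Set X)) {T : Subgroup X}
    (hT : A ≤ normalizer (T : Set X)) : ActInv (conjAct hAH) (gs H T) := by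
  intro a x hx
  induction hx using AddSubgroup.closure_induction with
  | mem x hx =>
    obtain ⟨q, z, hz, hzq, rfl⟩ := hx
    rw [(conjAct_elX hAH a hzq).1]
    exact elX_mem_gs (CfsgLib.Coprime.conj_mem_of_le_normalizer hT a.2 hz) (conjAct_elX hAH a hzq).2
  | zero => rw [map_zero]; exact zero_mem _
  | add u v _ _ iu iv => rw [map_add]; exact add_mem iu iv
  | neg u _ iu => rw [map_neg]; exact neg_mem iu

/-- Fixed elements of the span of an invariant subgroup come from centralized elements. -/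
theorem gs_inf_fixAdd_le (hAH : A ≤ normalizer (H : Set X)) (hk : Nat.card A = p ^ k)
    (hH : (Nat.card H).Coprime p) {T : Subgroup X} (hT : A ≤ normalizer (T : Set X)) (D : Subgroup ↥A) :
    gs H T ⊓ fixAdd (conjAct hAH) D ≤
      gs H (T ⊓ centralizer ((D.map A.subtype : Subgroup X) : Set X)) := by
  classical
  haveI : Fintype ↥D := Fintype.ofFinite _
  rintro x ⟨hxT, hxD⟩
  obtain ⟨u, hu⟩ := eq_of_coprime_nsmul (L := GrRing ↥H) (n := Nat.card ↥H)
    (fun y => card_nsmul_eq_zero y) (q := Nat.card ↥D)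
    (Nat.Coprime.coprime_dvd_right (card_subgroup_dvd_card D) (hk ▸ hH.pow_right k)) x
  rw [← hu]
  refine zsmul_mem ?_ u
  have e : Nat.card ↥D • x = ∑ d : D, conjAct hAH (d : ↥A) x := by
    rw [Finset.sum_congr rfl fun (d : D) _ => hxD (d : ↥A) d.2, Finset.sum_const, Finset.card_univ,
      Nat.card_eq_fintype_card]
  rw [e]
  clear e hu hxD
  induction hxT using AddSubgroup.closure_induction with
  | mem x hx =>
    obtain ⟨q, z, hz, hzq, rfl⟩ := hx
    set Y := T ⊓ H.lowerCentralSeries q with hY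
    have hYA : A ≤ normalizer (Y : Set X) :=
      CfsgLib.Coprime.inf_le_normalizer hT (le_normalizer_lcs hAH q)
    obtain ⟨y, hyY, hy⟩ : ∃ y ∈ Y, elX H q y = ∑ d : D, conjAct hAH (d : ↥A) (elX H q z) := by
      induction (Finset.univ : Finset D) using Finset.induction_on with
      | empty => exact ⟨1, one_mem _, by rw [elX_one, Finset.sum_empty]⟩
      | @insert d s hd ih =>
        obtain ⟨y, hyY, hy⟩ := ih
        have hc := conjAct_elX hAH (d : ↥A) hzq
        have hm : ((d : ↥A) : X) * z * ((d : ↥A) : X)⁻¹ ∈ Y :=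
          ⟨CfsgLib.Coprime.conj_mem_of_le_normalizer hT (d : ↥A).2 hz, hc.2⟩
        refine ⟨_, mul_mem hm hyY, ?_⟩
        rw [elX_mul hc.2 hyY.2, ← hc.1, hy, Finset.sum_insert hd]
    set DX : Subgroup X := D.map A.subtype with hDX
    set N := T ⊓ H.lowerCentralSeries (q + 1) with hN
    have hDA : DX ≤ A := map_subtype_le D
    have hfix : ∀ a ∈ DX, a * y * a⁻¹ * y⁻¹ ∈ N := by
      rintro _ ⟨b, hb, rfl⟩
      have hc := conjAct_elX hAH b hyY.2
      have hbfix : conjAct hAH b (elX H q y) = elX H q y := by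
        rw [hy, map_sum]
        refine Fintype.sum_equiv (Equiv.mulLeft (⟨b, hb⟩ : D)) _ _ fun d => ?_
        rw [← act_mul]
        rfl
      rw [hc.1] at hbfix
      refine Subgroup.mem_inf.2 ⟨mul_mem (CfsgLib.Coprime.conj_mem_of_le_normalizer hT b.2 hyY.1)
        (inv_mem (show y ∈ T from hyY.1)), ?_⟩
      refine (elX_eq_zero_iff (mul_mem hc.2 (inv_mem hyY.2))).1 ?_
      rw [elX_mul hc.2 (inv_mem hyY.2), elX_inv hyY.2]
      show elX H q ((b : X) * y * (b : X)⁻¹) + _ = 0
      rw [hbfix, add_neg_cancel]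
    have hyN : y ∈ normalizer (N : Set X) := by
      have hyT : y ∈ normalizer (T : Set X) := le_normalizer hyY.1
      have hyL : y ∈ normalizer (H.lowerCentralSeries (q + 1) : Set X) :=
        Subgroup.self_le_normalizer_lowerCentralSeries H (q + 1) (Subgroup.lowerCentralSeries_le_self H q hyY.2)
      exact (CfsgLib.Coprime.inf_le_normalizer (A := zpowers y) (zpowers_le.2 hyT) (zpowers_le.2 hyL))
        (mem_zpowers y)
    obtain ⟨m, hm, hym⟩ := CfsgLib.Coprime.exists_fixed_in_coset (A := DX) (N := N)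
      (hDA.trans (CfsgLib.Coprime.inf_le_normalizer hT (le_normalizer_lcs hAH (q + 1))))
      (Nat.Coprime.coprime_dvd_left (card_dvd_of_le hDA)
        (Nat.Coprime.coprime_dvd_right
          ((card_dvd_of_le inf_le_right).trans (card_dvd_of_le (Subgroup.lowerCentralSeries_le_self H _)))
          (hk ▸ (hH.symm.pow_left k))))
      (Or.inl (CfsgLib.Coprime.isSolvable_of_le hDA
        (CfsgLib.Coprime.isSolvable_of_isMulCommutative inferInstance))) hyN hfix
    have hmq : m ∈ H.lowerCentralSeries q := Subgroup.lowerCentralSeries_antitone H q.le_succ hm.2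
    have e : elX H q (y * m) = ∑ d : D, conjAct hAH (d : ↥A) (elX H q z) := by
      rw [elX_mul hyY.2 hmq, (elX_eq_zero_iff hmq).2 hm.2, add_zero, hy]
    rw [← e]
    exact elX_mem_gs ⟨mul_mem hyY.1 hm.1, hym⟩ (mul_mem hyY.2 hmq)
  | zero => simp
  | add v w _ _ iv iw => simp only [map_add, Finset.sum_add_distrib]; exact add_mem iv iw
  | neg v _ iv => simp only [map_neg, Finset.sum_neg_distrib]; exact neg_mem iv

/-- An invariant subgroup gives a span generated by the parts centralized by hyperplanes. -/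
theorem gs_le_iSup_hyperplanes (hA : Cfsg.IsElementaryAbelian p A) (hA2 : p ^ 2 ≤ Nat.card A)
    (hAH : A ≤ normalizer (H : Set X)) (hH : (Nat.card H).Coprime p) {T : Subgroup X}
    (hT : A ≤ normalizer (T : Set X)) :
    gs H T ≤ ⨆ B : {B : Subgroup X // B ≤ A ∧ Nat.card B * p = Nat.card A},
      gs H (T ⊓ centralizer (B.1 : Set X)) := by
  refine (AddSubgroup.closure_le _).2 ?_
  rintro _ ⟨q, z, hz, hzq, rfl⟩
  set U := ⨆ B : {B : Subgroup X // B ≤ A ∧ Nat.card B * p = Nat.card A},
      gs H (T ⊓ centralizer (B.1 : Set X)) with hU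
  let W : Subgroup X :=
    { carrier := {w | w ∈ H.lowerCentralSeries q ∧ elX H q w ∈ U}
      one_mem' := ⟨one_mem _, by rw [elX_one]; exact zero_mem _⟩
      mul_mem' := fun {a b} ha hb => ⟨mul_mem ha.1 hb.1, by rw [elX_mul ha.1 hb.1]; exact add_mem ha.2 hb.2⟩
      inv_mem' := fun {a} ha => ⟨inv_mem ha.1, by rw [elX_inv ha.1]; exact neg_mem ha.2⟩ }
  have hle : T ⊓ H.lowerCentralSeries q ≤ W := by
    refine le_of_hyperplane_centralizers_le hA hA2
      (CfsgLib.Coprime.inf_le_normalizer hT (le_normalizer_lcs hAH q))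
      (Nat.Coprime.coprime_dvd_left
        ((card_dvd_of_le inf_le_right).trans (card_dvd_of_le (Subgroup.lowerCentralSeries_le_self H q))) hH)
      fun B hB hcard w hw => ⟨hw.1.2, ?_⟩
    exact AddSubgroup.mem_iSup_of_mem ⟨B, hB, hcard⟩ (elX_mem_gs ⟨hw.1.1, hw.2⟩ hw.1.2)
  exact (hle ⟨hz, hzq⟩).2

end Elementary

/-- The layers of the Lie ring climb with the lower central series. -/
theorem elX_mem_lcl {q : ℕ} : ∀ {z : X}, z ∈ H.lowerCentralSeries q →
    elX H q z ∈ GradedLie.lcl (GrRing ↥H) q := by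
  induction q with
  | zero => exact fun _ => AddSubgroup.mem_top _
  | succ q ih =>
    intro z hz
    have key : z ∈ H.lowerCentralSeries (q + 1) ∧ elX H (q + 1) z ∈ GradedLie.lcl (GrRing ↥H) (q + 1) := by
      rw [Subgroup.mem_lowerCentralSeries_succ_iff] at hz
      induction hz using Subgroup.closure_induction with
      | mem w hw =>
        obtain ⟨a, ha, b, hb, rfl⟩ := hw
        have h := lie_elX (H := H) (i := q) (j := 0) ha hb
        exact ⟨h.2, h.1 ▸ lie_mem_lb (ih ha) (AddSubgroup.mem_top _)⟩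
      | one => exact ⟨one_mem _, by rw [elX_one]; exact zero_mem _⟩
      | mul a b _ _ ha hb => exact ⟨mul_mem ha.1 hb.1, by rw [elX_mul ha.1 hb.1]; exact add_mem ha.2 hb.2⟩
      | inv a _ ha => exact ⟨inv_mem ha.1, by rw [elX_inv ha.1]; exact neg_mem ha.2⟩
    exact key.2

/-- A nilpotent group whose Lie ring has class at most `m` has class at most `m`. -/
theorem lowerCentralSeries_eq_bot_of_lcl {m : ℕ} (hnil : Group.IsNilpotent ↥H)
    (h : GradedLie.lcl (GrRing ↥H) m = ⊥) : H.lowerCentralSeries m = ⊥ := by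
  have h1 : H.lowerCentralSeries m ≤ H.lowerCentralSeries (m + 1) := fun z hz => by
    rw [← elX_eq_zero_iff hz, ← AddSubgroup.mem_bot, ← h]
    exact elX_mem_lcl hz
  have h2 : ∀ i, H.lowerCentralSeries m ≤ H.lowerCentralSeries (m + i) := by
    intro i
    induction i with
    | zero => exact le_rfl
    | succ i ih =>
      refine h1.trans ?_
      show ⁅H.lowerCentralSeries m, H⁆ ≤ ⁅H.lowerCentralSeries (m + i), H⁆
      exact commutator_mono ih le_rfl
  obtain ⟨n, hn⟩ := (Subgroup.isNilpotent_iff_lowerCentralSeries (S := H)).1 hnil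
  refine eq_bot_iff.2 ((h2 n).trans ?_)
  rw [← hn]
  exact Subgroup.lowerCentralSeries_antitone H (by omega)

/-- A subgroup generated by a special family has bounded class. -/
theorem lowerCentralSeries_eq_bot_of_special {c : ℕ} {ι : Type} [Fintype ι]
    (hA : Cfsg.IsElementaryAbelian p A) (hk : Nat.card A = p ^ k) (hk2 : 2 ≤ k)
    (hAH : A ≤ normalizer (H : Set X)) (hH : (Nat.card H).Coprime p) (hsol : Group.IsSolvable H)
    (S : ι → Subgroup X) (hAS : ∀ j, A ≤ normalizer (S j : Set X)) (hgen : ⨆ j, S j = H)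
    (hclose : ∀ i j, ∀ B : Subgroup X, B ≤ A → Nat.card B * p = Nat.card A →
      ∃ l, ⁅S i, S j⁆ ⊓ centralizer (B : Set X) ≤ S l)
    (hKP : ∀ j, ∀ B : Subgroup X, B ≤ A → Nat.card B * p = Nat.card A → ∃ K : Subgroup X, S j ≤ K ∧
      (∀ u ∈ H ⊓ centralizer (B : Set X), ∀ s ∈ K, ⁅u, s⁆ ∈ K) ∧ K.lowerCentralSeries c = ⊥) :
    H.lowerCentralSeries (chainBound p (Fintype.card ι * c) (Fintype.card ι * c) k) = ⊥ := by
  classical
  haveI : IsMulCommutative A := hA.1
  open scoped IsMulCommutative in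
  have hA2 : p ^ 2 ≤ Nat.card A := hk ▸ Nat.pow_le_pow_right hp.out.pos hk2
  obtain ⟨B₀, hB₀A, hB₀⟩ : ∃ B : Subgroup X, B ≤ A ∧ Nat.card B * p = Nat.card A := by
    obtain ⟨B', hB'⟩ := Sylow.exists_subgroup_card_pow_prime (G := ↥A) p
      (n := k - 1) (hk ▸ pow_dvd_pow p (Nat.sub_le k 1))
    refine ⟨B'.map A.subtype, map_subtype_le B', ?_⟩
    rw [card_map_of_injective A.subtype_injective, hB', hk, ← pow_succ, Nat.sub_add_cancel (by omega)]
  -- iterated commutators
  have hlev : ∀ j, ∀ B : Subgroup X, B ≤ A → Nat.card B * p = Nat.card A →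
      ∀ (m : ℕ), ∃ V : Subgroup X, (m = 0 → V = H ⊓ centralizer (B : Set X)) ∧
        (m = c + 1 → V = ⊥) ∧ adIter (gs H (H ⊓ centralizer (B : Set X))) (gs H (S j)) m ≤ gs H V ∧
        (∀ u ∈ H ⊓ centralizer (B : Set X), ∀ s ∈ S j, (fun v => ⁅v, s⁆)^[m] u ∈ V) := by
    intro j B hB hcard m
    obtain ⟨K, hSK, hK, hKc⟩ := hKP j B hB hcard
    have h1 : ⁅H ⊓ centralizer (B : Set X), S j⁆ ≤ K :=
      (commutator_le).2 fun u hu s hs => hK u hu s (hSK hs)
    have hsucc : ∀ i : ℕ,
        adIter (gs H (H ⊓ centralizer (B : Set X))) (gs H (S j)) (i + 1) ≤ gs H (K.lowerCentralSeries i) ∧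
        (∀ u ∈ H ⊓ centralizer (B : Set X), ∀ s ∈ S j,
          (fun v => ⁅v, s⁆)^[i + 1] u ∈ K.lowerCentralSeries i) := by
      intro i
      induction i with
      | zero =>
        exact ⟨(lb_gs_le _ _).trans (gs_mono h1),
          fun u hu s hs => h1 (commutator_mem_commutator hu hs)⟩
      | succ i ih =>
        refine ⟨(lb_mono ih.1 le_rfl).trans ((lb_gs_le _ _).trans (gs_mono (commutator_mono le_rfl hSK))),
          fun u hu s hs => ?_⟩
        rw [Function.iterate_succ_apply']
        exact commutator_mem_commutator (ih.2 u hu s hs) (hSK hs)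
    cases m with
    | zero => exact ⟨_, fun _ => rfl, fun h => absurd h (Nat.succ_ne_zero c).symm, le_rfl, fun u hu s _ => hu⟩
    | succ i =>
      refine ⟨_, fun h => absurd h (Nat.succ_ne_zero i), fun h => ?_, (hsucc i).1, (hsucc i).2⟩
      rw [Nat.succ_inj.1 h, hKc]
  have hnil : Group.IsNilpotent ↥H := by
    refine isNilpotent_of_engel_generators S hA hA2 hAH hH hsol hgen ?_ (c + 1) ?_
    · intro j
      obtain ⟨K, hSK, -, hKc⟩ := hKP j B₀ hB₀A hB₀
      exact (Subgroup.isNilpotent_iff_lowerCentralSeries (S := S j)).2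
        ⟨c, eq_bot_iff.2 ((Subgroup.lowerCentralSeries_mono c hSK).trans hKc.le)⟩
    · intro j B hB hcard u hu s hs
      obtain ⟨V, -, hV, -, hVu⟩ := hlev j B hB hcard (c + 1)
      have := hVu u hu s hs
      rwa [hV rfl, mem_bot] at this
  -- hyperplanes as subgroups of the operator group
  have hsub : ∀ B : Subgroup ↥A, Nat.card B * p = Nat.card ↥A →
      B.map A.subtype ≤ A ∧ Nat.card (B.map A.subtype : Subgroup X) * p = Nat.card A := fun B hB =>
    ⟨map_subtype_le B, by rw [card_map_of_injective A.subtype_injective]; exact hB⟩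
  have hPtop : ⊤ ≤ ⨆ j, gs H (S j) := by
    rw [← gs_self (H := H)]
    refine (AddSubgroup.closure_le _).2 ?_
    rintro _ ⟨q, z, -, hzq, rfl⟩
    induction q generalizing z with
    | zero =>
      let W : Subgroup X :=
        { carrier := {w | w ∈ H.lowerCentralSeries 0 ∧ elX H 0 w ∈ ⨆ j, gs H (S j)}
          one_mem' := ⟨one_mem _, by rw [elX_one]; exact zero_mem _⟩
          mul_mem' := fun {a b} ha hb =>
            ⟨mul_mem ha.1 hb.1, by rw [elX_mul ha.1 hb.1]; exact add_mem ha.2 hb.2⟩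
          inv_mem' := fun {a} ha => ⟨inv_mem ha.1, by rw [elX_inv ha.1]; exact neg_mem ha.2⟩ }
      have hW : H ≤ W := hgen.symm.le.trans (iSup_le fun j w hw =>
        have hwH : w ∈ H.lowerCentralSeries 0 := hgen ▸ (le_iSup S j hw)
        ⟨hwH, AddSubgroup.mem_iSup_of_mem j (elX_mem_gs hw hwH)⟩)
      exact (hW hzq).2
    | succ q ih =>
      have key : z ∈ H.lowerCentralSeries (q + 1) ∧ elX H (q + 1) z ∈ ⨆ j, gs H (S j) := by
        rw [Subgroup.mem_lowerCentralSeries_succ_iff] at hzq
        induction hzq using Subgroup.closure_induction with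
        | mem w hw =>
          obtain ⟨a, ha, b, hb, rfl⟩ := hw
          have h := lie_elX (H := H) (i := q) (j := 0) ha hb
          refine ⟨h.2, ?_⟩
          show elX H (q + 0 + 1) ⁅a, b⁆ ∈ _
          rw [← h.1]
          have hb' : elX H 0 b ∈ ⨆ j, gs H (S j) := by
            let W : Subgroup X :=
              { carrier := {w | w ∈ H.lowerCentralSeries 0 ∧ elX H 0 w ∈ ⨆ j, gs H (S j)}
                one_mem' := ⟨one_mem _, by rw [elX_one]; exact zero_mem _⟩
                mul_mem' := fun {a b} ha hb =>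
                  ⟨mul_mem ha.1 hb.1, by rw [elX_mul ha.1 hb.1]; exact add_mem ha.2 hb.2⟩
                inv_mem' := fun {a} ha => ⟨inv_mem ha.1, by rw [elX_inv ha.1]; exact neg_mem ha.2⟩ }
            have hW : H ≤ W := hgen.symm.le.trans (iSup_le fun j w hw =>
              have hwH : w ∈ H.lowerCentralSeries 0 := hgen ▸ (le_iSup S j hw)
              ⟨hwH, AddSubgroup.mem_iSup_of_mem j (elX_mem_gs hw hwH)⟩)
            exact (hW hb).2
          refine AddSubgroup.iSup_induction _ (C := fun x => ⁅x, elX H 0 b⁆ ∈ _) (ih a ha) ?_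
            (by rw [zero_lie]; exact zero_mem _) (fun x y hx hy => by rw [add_lie]; exact add_mem hx hy)
          intro i x hx
          refine AddSubgroup.iSup_induction _ (C := fun y => ⁅x, y⁆ ∈ _) hb' ?_
            (by rw [lie_zero]; exact zero_mem _) (fun x' y' hx' hy' => by rw [lie_add]; exact add_mem hx' hy')
          intro j y hy
          have hm := lb_gs_le (H := H) (S i) (S j) (lie_mem_lb hx hy)
          refine ((gs_le_iSup_hyperplanes hA hA2 hAH hH ?_).trans (iSup_le fun B => ?_)) hm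
          · intro a ha
            rw [Subgroup.mem_normalizer_iff]
            intro w
            have hmap : ∀ b ∈ A, ∀ w ∈ ⁅S i, S j⁆, b * w * b⁻¹ ∈ ⁅S i, S j⁆ := by
              intro b hb w hw
              have hle : (⁅S i, S j⁆).map (MulAut.conj b).toMonoidHom ≤ ⁅S i, S j⁆ := by
                rw [map_commutator]
                refine commutator_mono ?_ ?_ <;> rintro _ ⟨s, hs, rfl⟩ <;>
                  exact CfsgLib.Coprime.conj_mem_of_le_normalizer (hAS _) hb hs
              exact hle ⟨w, hw, rfl⟩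
            exact ⟨hmap a ha w, fun hw => by simpa [mul_assoc] using hmap a⁻¹ (inv_mem ha) _ hw⟩
          · obtain ⟨l, hl⟩ := hclose i j B.1 B.2.1 B.2.2
            exact le_iSup_of_le l (gs_mono hl)
        | one => exact ⟨one_mem _, by rw [elX_one]; exact zero_mem _⟩
        | mul a b _ _ ha hb => exact ⟨mul_mem ha.1 hb.1, by rw [elX_mul ha.1 hb.1]; exact add_mem ha.2 hb.2⟩
        | inv a _ ha => exact ⟨inv_mem ha.1, by rw [elX_inv ha.1]; exact neg_mem ha.2⟩
      exact key.2
  -- the fixed points of all operators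
  choose K hSK hK hKc using fun j => hKP j B₀ hB₀A hB₀
  set CA := H ⊓ centralizer (A : Set X) with hCA
  have hCAB : CA ≤ H ⊓ centralizer (B₀ : Set X) := inf_le_inf_left _ (centralizer_le hB₀A)
  let J : ι → AddSubgroup (GrRing ↥H) := fun j => gs H (K j ⊓ CA)
  have hAC : A ≤ normalizer (centralizer (A : Set X) : Set X) :=
    le_trans (le_centralizer A) le_normalizer
  have hAT : A ≤ normalizer (H : Set X) := hAH
  have htopmap : (⊤ : Subgroup ↥A).map A.subtype = A := by
    rw [← MonoidHom.range_eq_map, range_subtype]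
  have hfixA : fixAdd (conjAct hAH) (⊤ : Subgroup ↥A) ≤ gs H CA := by
    intro x hx
    have h := gs_inf_fixAdd_le hAH hk hH hAH ⊤ ⟨by rw [gs_self]; exact AddSubgroup.mem_top x, hx⟩
    rwa [htopmap] at h
  have hJfix : ∀ j, J j ≤ fixAdd (conjAct hAH) (⊤ : Subgroup ↥A) := by
    intro j
    refine (AddSubgroup.closure_le _).2 ?_
    rintro _ ⟨q, z, hz, hzq, rfl⟩ a -
    rw [(conjAct_elX hAH a hzq).1]
    congr 1
    have := (mem_centralizer_iff.1 hz.2.2) (a : X) a.2
    rw [this, mul_inv_cancel_right]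
  have he₀ : adIter (fixAdd (conjAct hAH) (⊤ : Subgroup ↥A)) (fixAdd (conjAct hAH) ⊤)
      (Fintype.card ι * c) = ⊥ := by
    refine adIter_sum_ideals_eq_bot (closed_fixAdd _ (conjAct_lie hAH) ⊤) J hJfix (fun j => ?_) ?_ fun j => ?_
    · intro x hx y hy
      refine gs_mono ?_ (lb_gs_le (K j ⊓ CA) CA (lie_mem_lb hx (hfixA hy)))
      refine (commutator_le).2 fun s hs v hv => Subgroup.mem_inf.2 ⟨?_, ?_⟩
      · rw [← commutatorElement_inv v s]
        exact inv_mem (hK j v (hCAB hv) s hs.1)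
      · have hs2 : s ∈ CA := hs.2
        exact mul_mem (mul_mem (mul_mem hs2 hv) (inv_mem hs2)) (inv_mem hv)
    · intro x hx
      obtain ⟨u, hu⟩ := eq_of_coprime_nsmul (L := GrRing ↥H) (n := Nat.card ↥H)
        (fun y => card_nsmul_eq_zero y) (q := Nat.card ↥A) (hk ▸ hH.pow_right k) x
      rw [← hu]
      refine zsmul_mem ?_ u
      haveI : Fintype ↥A := Fintype.ofFinite _
      have e : Nat.card ↥A • x = ∑ a : ↥A, conjAct hAH a x := by
        rw [Finset.sum_congr rfl fun (a : ↥A) _ => hx a (mem_top a), Finset.sum_const, Finset.card_univ,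
          Nat.card_eq_fintype_card]
      rw [e]
      clear e hu hx
      refine AddSubgroup.iSup_induction _ (C := fun x => ∑ a : ↥A, conjAct hAH a x ∈ ⨆ j, J j)
        (hPtop (AddSubgroup.mem_top x)) ?_ (by simp) ?_
      · intro j y hy
        have hfix : ∑ a : ↥A, conjAct hAH a y ∈ fixAdd (conjAct hAH) (⊤ : Subgroup ↥A) := by
          intro b _
          rw [map_sum]
          refine Fintype.sum_equiv (Equiv.mulLeft b) _ _ fun d => ?_
          rw [← act_mul]
          rfl
        have h := gs_inf_fixAdd_le hAH hk hH (hAS j) ⊤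
          ⟨AddSubgroup.sum_mem _ fun a _ => actInv_gs hAH (hAS j) a y hy, hfix⟩
        rw [htopmap] at h
        refine AddSubgroup.mem_iSup_of_mem j (gs_mono ?_ h)
        exact fun w hw => ⟨hSK j hw.1, hgen ▸ le_iSup S j hw.1, hw.2⟩
      · intro a b ha hb
        simp only [map_add, Finset.sum_add_distrib]
        exact add_mem ha hb
    · refine eq_bot_iff.2 ((adIter_gs_le _ c).trans ?_)
      exact (gs_mono ((Subgroup.lowerCentralSeries_mono c inf_le_left).trans (hKc j).le)).trans gs_bot.le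
  refine lowerCentralSeries_eq_bot_of_lcl hnil ?_
  refine lcl_eq_bot_of_special (conjAct hAH) (n := Nat.card ↥H)
    (fun a => Subtype.ext (hA.2 _ a.2)) hk (by omega) (conjAct_lie hAH) (fun y => card_nsmul_eq_zero y) hH
    (fun j => gs H (S j)) (fun j => actInv_gs hAH (hAS j)) hPtop ?_ ?_ he₀
  · intro i j B hB
    obtain ⟨l, hl⟩ := hclose i j _ (hsub B hB).1 (hsub B hB).2
    have hT : A ≤ normalizer ((⁅S i, S j⁆ : Subgroup X) : Set X) := by
      intro a ha
      rw [Subgroup.mem_normalizer_iff]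
      intro w
      have hmap : ∀ b ∈ A, ∀ w ∈ ⁅S i, S j⁆, b * w * b⁻¹ ∈ ⁅S i, S j⁆ := by
        intro b hb w hw
        have hle : (⁅S i, S j⁆).map (MulAut.conj b).toMonoidHom ≤ ⁅S i, S j⁆ := by
          rw [map_commutator]
          refine commutator_mono ?_ ?_ <;> rintro _ ⟨s, hs, rfl⟩ <;>
            exact CfsgLib.Coprime.conj_mem_of_le_normalizer (hAS _) hb hs
        exact hle ⟨w, hw, rfl⟩
      exact ⟨hmap a ha w, fun hw => by simpa [mul_assoc] using hmap a⁻¹ (inv_mem ha) _ hw⟩
    refine ⟨l, ?_⟩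
    exact (inf_le_inf_right _ (lb_gs_le _ _)).trans ((gs_inf_fixAdd_le hAH hk hH hT B).trans (gs_mono hl))
  · intro j
    have hsplit : ∀ m, adIter (⊤ : AddSubgroup (GrRing ↥H)) (gs H (S j)) m ≤
        ⨆ B : {B : Subgroup X // B ≤ A ∧ Nat.card B * p = Nat.card A},
          adIter (gs H (H ⊓ centralizer (B.1 : Set X))) (gs H (S j)) m := by
      intro m
      induction m with
      | zero =>
        show (⊤ : AddSubgroup (GrRing ↥H)) ≤ _
        rw [← gs_self (H := H)]
        exact gs_le_iSup_hyperplanes hA hA2 hAH hH hAH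
      | succ m ih =>
        refine lb_le fun x hx y hy => ?_
        refine AddSubgroup.iSup_induction _ (C := fun x => ⁅x, y⁆ ∈ _) (ih hx) ?_
          (by rw [zero_lie]; exact zero_mem _) (fun a b ha hb => by rw [add_lie]; exact add_mem ha hb)
        exact fun B a ha => AddSubgroup.mem_iSup_of_mem B (lie_mem_lb ha hy)
    refine eq_bot_iff.2 ((hsplit (c + 1)).trans (iSup_le fun B => ?_))
    obtain ⟨V, -, hV, hVle, -⟩ := hlev j B.1 B.2.1 B.2.2 (c + 1)
    rwa [hV rfl, gs_bot] at hVle

end CfsgLib.SpecialGen
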