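import Cfsg.Agent.Lib.PGroup.SpecialGen.Basic

/-!
# Kreknin's theorem with a nilpotently acting zero component

For a Lie ring graded by `ZMod p` in which the zero component of a homogeneous subring `H` acts
nilpotently of index `M` on `H`, the derived length of `H` is bounded in terms of `p` and `M`.
-/

set_option autoImplicit false
set_option linter.style.haveILetI false
set_option linter.unusedSectionVars false

namespace CfsgLib.SpecialGen

open CfsgLib.GradedLie (lb lie_mem_lb lb_le lb_mono der der_mono der_add Closed closed_der der_le)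

universe u

variable {L : Type u} [LieRing L]

/-- A grading by `ZMod p`. -/
structure Grad (p : ℕ) (L : Type u) [LieRing L] where
  /-- The components. -/
  C : ZMod p → AddSubgroup L
  /-- The projections. -/
  proj : ZMod p → L →+ L
  mul : ∀ i j, ∀ x ∈ C i, ∀ y ∈ C j, ⁅x, y⁆ ∈ C (i + j)
  proj_self : ∀ i, ∀ x ∈ C i, proj i x = x
  proj_ne : ∀ i j, i ≠ j → ∀ x ∈ C j, proj i x = 0

variable {p : ℕ} [hp : Fact p.Prime] (gr : Grad p L)

/-- Being spanned by homogeneous elements. -/
def Homog (H : AddSubgroup L) : Prop := H ≤ ⨆ i, (H ⊓ gr.C i)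

theorem homog_lb {S T : AddSubgroup L} (hS : Homog gr S) (hT : Homog gr T) : Homog gr (lb S T) := by
  refine lb_le fun x hx y hy => ?_
  refine AddSubgroup.iSup_induction _ (C := fun x => ⁅x, y⁆ ∈ _) (hS hx) ?_
    (by rw [zero_lie]; exact zero_mem _) ?_
  · intro i a ha
    refine AddSubgroup.iSup_induction _ (C := fun y => ⁅a, y⁆ ∈ _) (hT hy) ?_
      (by rw [lie_zero]; exact zero_mem _) ?_
    · exact fun j b hb => AddSubgroup.mem_iSup_of_mem (i + j)
        ⟨lie_mem_lb ha.1 hb.1, gr.mul i j _ ha.2 _ hb.2⟩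
    · intro b c hb hc; rw [lie_add]; exact add_mem hb hc
  · intro b c hb hc; rw [add_lie]; exact add_mem hb hc

theorem homog_der {H : AddSubgroup L} (hH : Homog gr H) (n : ℕ) : Homog gr (der H n) := by
  induction n with
  | zero => exact hH
  | succ n ih => exact homog_lb gr ih ih

/-- Homogeneous elements of `H` of weight above `k`. -/
def KGen (H : AddSubgroup L) (k : ℕ) (x : L) : Prop :=
  ∃ l : ZMod p, k < l.val ∧ x ∈ H ∧ x ∈ gr.C l

/-- Left normed products of the generators. -/
inductive KLM (H : AddSubgroup L) (k : ℕ) : L → Prop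
  | gen {x : L} : KGen gr H k x → KLM H k x
  | mul {w c : L} : KLM H k w → KGen gr H k c → KLM H k ⁅w, c⁆

/-- The subring generated by the homogeneous elements of `H` of weight above `k`. -/
def KR (H : AddSubgroup L) (k : ℕ) : AddSubgroup L := AddSubgroup.closure {x | KLM gr H k x}

/-- The spanned products of length at least two. -/
def KT (H : AddSubgroup L) (k : ℕ) : AddSubgroup L :=
  AddSubgroup.closure {z | ∃ w c, KLM gr H k w ∧ KGen gr H k c ∧ ⁅w, c⁆ = z}

theorem KT_le_KR (H : AddSubgroup L) (k : ℕ) : KT gr H k ≤ KR gr H k :=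
  (AddSubgroup.closure_le _).2 (by
    rintro _ ⟨w, c, hw, hc, rfl⟩; exact AddSubgroup.subset_closure (KLM.mul hw hc))

theorem KLM.spec {H : AddSubgroup L} (hH : Closed H) {k : ℕ} {x : L} (h : KLM gr H k x) :
    x ∈ H ∧ ∃ l, x ∈ gr.C l := by
  induction h with
  | gen h => obtain ⟨l, -, h1, h2⟩ := h; exact ⟨h1, l, h2⟩
  | mul _ hc ih =>
    obtain ⟨l, -, h1, h2⟩ := hc
    obtain ⟨m, hm⟩ := ih.2
    exact ⟨hH _ ih.1 _ h1, m + l, gr.mul m l _ hm _ h2⟩

theorem lie_KLM {H : AddSubgroup L} {k : ℕ} {x y : L} (hx : KLM gr H k x) (hy : KLM gr H k y) :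
    ⁅x, y⁆ ∈ KT gr H k := by
  induction hy generalizing x with
  | gen hc => exact AddSubgroup.subset_closure ⟨x, _, hx, hc, rfl⟩
  | @mul w c hw hc ih =>
    rw [leibniz_lie x w c, ← lie_skew w ⁅x, c⁆]
    refine add_mem ?_ (neg_mem (ih (KLM.mul hx hc)))
    have h1 := ih hx
    generalize ⁅x, w⁆ = z at h1
    induction h1 using AddSubgroup.closure_induction with
    | mem z hz =>
      obtain ⟨a, b, ha, hb, rfl⟩ := hz
      exact AddSubgroup.subset_closure ⟨_, c, KLM.mul ha hb, hc, rfl⟩
    | zero => rw [zero_lie]; exact zero_mem _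
    | add u v _ _ iu iv => rw [add_lie]; exact add_mem iu iv
    | neg u _ iu => rw [neg_lie]; exact neg_mem iu

theorem lb_KR_le (H : AddSubgroup L) (k : ℕ) : lb (KR gr H k) (KR gr H k) ≤ KT gr H k := by
  refine lb_le fun x hx y hy => ?_
  induction hx using AddSubgroup.closure_induction with
  | mem x hx =>
    induction hy using AddSubgroup.closure_induction with
    | mem y hy => exact lie_KLM gr hx hy
    | zero => rw [lie_zero]; exact zero_mem _
    | add u v _ _ iu iv => rw [lie_add]; exact add_mem iu iv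
    | neg u _ iu => rw [lie_neg]; exact neg_mem iu
  | zero => rw [zero_lie]; exact zero_mem _
  | add u v _ _ iu iv => rw [add_lie]; exact add_mem iu iv
  | neg u _ iu => rw [neg_lie]; exact neg_mem iu

theorem closed_KR (H : AddSubgroup L) (k : ℕ) : Closed (KR gr H k) := fun _ hx _ hy =>
  KT_le_KR gr H k (lb_KR_le gr H k (lie_mem_lb hx hy))

/-- The generated subring is invariant under the zero component. -/
theorem inv_KR {H : AddSubgroup L} (hH : Closed H) (k : ℕ) : Inv (KR gr H k) (H ⊓ gr.C 0) := by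
  intro x hx z hz
  have hgen : ∀ g, KGen gr H k g → KGen gr H k ⁅g, z⁆ := by
    rintro g ⟨l, hl, h1, h2⟩
    exact ⟨l, hl, hH _ h1 _ hz.1, by simpa using gr.mul l 0 _ h2 _ hz.2⟩
  induction hx using AddSubgroup.closure_induction with
  | mem x hx =>
    induction hx with
    | gen h => exact AddSubgroup.subset_closure (KLM.gen (hgen _ h))
    | @mul w c hw hc ih =>
      have e : ⁅⁅w, c⁆, z⁆ = ⁅w, ⁅c, z⁆⁆ + ⁅⁅w, z⁆, c⁆ := by
        rw [← lie_skew ⁅w, z⁆ c, ← sub_eq_add_neg, eq_sub_iff_add_eq, leibniz_lie w c z]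
      rw [e]
      exact add_mem (closed_KR gr H k _ (AddSubgroup.subset_closure hw) _
          (AddSubgroup.subset_closure (KLM.gen (hgen _ hc))))
        (closed_KR gr H k _ ih _ (AddSubgroup.subset_closure (KLM.gen hc)))
  | zero => rw [zero_lie]; exact zero_mem _
  | add u v _ _ iu iv => rw [add_lie]; exact add_mem iu iv
  | neg u _ iu => rw [neg_lie]; exact neg_mem iu

/-- The component of weight `k + 1` of the products lies in the smaller subring, up to brackets with
the zero component. -/
theorem proj_KT_mem {H : AddSubgroup L} (hH : Closed H) {k : ℕ} (hk : k + 1 < p) {z : L}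
    (hz : z ∈ KT gr H k) :
    gr.proj ((k + 1 : ℕ) : ZMod p) z ∈
      KR gr H (k + 1) ⊔ lb (H ⊓ gr.C ((k + 1 : ℕ) : ZMod p)) (H ⊓ gr.C 0) := by
  haveI : NeZero p := ⟨hp.out.ne_zero⟩
  induction hz using AddSubgroup.closure_induction with
  | mem z hz =>
    obtain ⟨w, c, hw, hc, rfl⟩ := hz
    obtain ⟨hwH, m, hwm⟩ := hw.spec gr hH
    obtain ⟨l, hl, hcH, hcl⟩ := hc
    by_cases he : ((k + 1 : ℕ) : ZMod p) = m + l
    swap
    · rw [gr.proj_ne _ _ he _ (gr.mul m l w hwm c hcl)]; exact zero_mem _
    rw [he, gr.proj_self _ _ (gr.mul m l w hwm c hcl)]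
    rcases Nat.lt_or_eq_of_le (Nat.succ_le_of_lt hl) with hl' | hl'
    swap
    · have hl0 : l = ((k + 1 : ℕ) : ZMod p) := by rw [← ZMod.natCast_zmod_val l, ← hl']
      have hm0 : m = 0 := by
        rw [hl0] at he
        simpa using he.symm
      rw [hm0] at hwm
      rw [← lie_skew w c]
      refine neg_mem (AddSubgroup.mem_sup_right ?_)
      rw [hm0, zero_add]
      exact lie_mem_lb ⟨hcH, hcl⟩ ⟨hwH, hwm⟩
    have hm : m = ((k + 1 + p - l.val : ℕ) : ZMod p) := by
      rw [Nat.cast_sub (by have := l.val_lt; omega), Nat.cast_add, ZMod.natCast_self, add_zero,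
        ZMod.natCast_zmod_val, he, add_sub_cancel_right]
    have hmv : k + 1 < m.val := by
      have := l.val_lt
      rw [hm, ZMod.val_natCast, Nat.mod_eq_of_lt (by omega)]
      omega
    exact AddSubgroup.mem_sup_left (AddSubgroup.subset_closure
      (KLM.mul (KLM.gen ⟨m, hmv, hwH, hwm⟩) ⟨l, hl', hcH, hcl⟩))
  | zero => rw [map_zero]; exact zero_mem _
  | add u v _ _ iu iv => rw [map_add]; exact add_mem iu iv
  | neg u _ iu => rw [map_neg]; exact neg_mem iu

theorem KR_mono {H H' : AddSubgroup L} (h : H ≤ H') (k : ℕ) : KR gr H k ≤ KR gr H' k := by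
  refine (AddSubgroup.closure_le _).2 fun x hx => ?_
  have hgen : ∀ g, KGen gr H k g → KGen gr H' k g := fun g ⟨l, hl, h1, h2⟩ => ⟨l, hl, h h1, h2⟩
  induction hx with
  | gen hg => exact AddSubgroup.subset_closure (KLM.gen (hgen _ hg))
  | mul _ hc ihw => exact closed_KR gr H' k _ ihw _ (AddSubgroup.subset_closure (KLM.gen (hgen _ hc)))

/-- The bound on the derived length. -/
def krBound (M : ℕ) : ℕ → ℕ
  | 0 => M
  | k + 1 => M * (krBound M k + 1) + krBound M k

/-- The start of the induction: only the zero component acts. -/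
theorem der_le_KR_zero {H : AddSubgroup L} (hH : Closed H) (hhom : Homog gr H) (j : ℕ) :
    der H j ≤ KR gr H 0 ⊔ adIter H (H ⊓ gr.C 0) j := by
  haveI : NeZero p := ⟨hp.out.ne_zero⟩
  set R := KR gr H 0 with hR
  set Z := H ⊓ gr.C 0 with hZ
  have hdec : H ≤ R ⊔ Z := by
    refine hhom.trans (iSup_le fun i x hx => ?_)
    by_cases hi : i = 0
    · subst hi; exact AddSubgroup.mem_sup_right hx
    · exact AddSubgroup.mem_sup_left (AddSubgroup.subset_closure
        (KLM.gen ⟨i, Nat.pos_of_ne_zero (by simpa using hi), hx.1, hx.2⟩))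
  have hRideal : Inv R H := by
    intro x hx y hy
    obtain ⟨r, hr, z, hz, rfl⟩ := AddSubgroup.mem_sup.1 (hdec hy)
    rw [lie_add]
    exact add_mem (closed_KR gr H 0 _ hx _ hr) (inv_KR gr hH 0 _ hx _ hz)
  induction j with
  | zero => exact le_sup_right
  | succ j ih =>
    refine (lb_mono ih (der_le hH j)).trans (lb_le fun x hx y hy => ?_)
    obtain ⟨r, hr, i, hi, rfl⟩ := AddSubgroup.mem_sup.1 hx
    rw [add_lie]
    refine add_mem (AddSubgroup.mem_sup_left (hRideal r hr y hy)) ?_
    obtain ⟨r', hr', z, hz, rfl⟩ := AddSubgroup.mem_sup.1 (hdec hy)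
    rw [lie_add]
    refine add_mem (AddSubgroup.mem_sup_left ?_) (AddSubgroup.mem_sup_right (lie_mem_lb hi hz))
    rw [← lie_skew]
    exact neg_mem (hRideal r' hr' i (adIter_le (show Inv H Z from fun a ha b hb => hH a ha b hb.1) j hi))

/-- The generalized Kreknin theorem, inductive form. -/
theorem der_le_KR (M : ℕ) : ∀ k : ℕ, k < p → ∀ H : AddSubgroup L, Closed H → Homog gr H →
    adIter H (H ⊓ gr.C 0) M = ⊥ → der H (krBound M k) ≤ KR gr H k := by
  haveI : NeZero p := ⟨hp.out.ne_zero⟩
  intro k
  induction k with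
  | zero =>
    intro _ H hH hhom hM
    refine (der_le_KR_zero gr hH hhom M).trans ?_
    rw [hM, sup_bot_eq]
  | succ k ih =>
    intro hk H hH hhom hM
    set g := krBound M k + 1 with hg
    set R := KR gr H (k + 1) with hR
    set w : ZMod p := ((k + 1 : ℕ) : ZMod p) with hw
    set Z := H ⊓ gr.C 0 with hZ
    have hred : ∀ H' : AddSubgroup L, H' ≤ H → Closed H' → Homog gr H' →
        adIter H' (H' ⊓ gr.C 0) M = ⊥ := fun H' hle _ _ => by
      rw [← le_bot_iff, ← hM]
      exact adIter_mono hle (inf_le_inf_right _ hle) M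
    -- the component of weight `k + 1` of deep derived terms
    have hcomp : ∀ j : ℕ, ∀ x ∈ der H (g * j), x ∈ gr.C w → x ∈ R ⊔ adIter H Z j := by
      intro j
      induction j with
      | zero =>
        intro x hx _
        rw [mul_zero] at hx
        exact AddSubgroup.mem_sup_right hx
      | succ j ihj =>
        intro x hx hxw
        set H' := der H (g * j) with hH'
        have hle : H' ≤ H := der_le hH _
        have hc : Closed H' := closed_der hH _
        have hho : Homog gr H' := homog_der gr hhom _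
        have hT : x ∈ KT gr H' k := by
          have e : g * (j + 1) = g * j + g := by ring
          rw [e, der_add, ← hH'] at hx
          exact ((lb_mono (ih (by omega) H' hc hho (hred H' hle hc hho))
            (ih (by omega) H' hc hho (hred H' hle hc hho))).trans (lb_KR_le gr H' k)) hx
        have h1 := proj_KT_mem gr hc hk hT
        rw [← hw, gr.proj_self w x hxw] at h1
        refine (sup_le ((KR_mono gr hle (k + 1)).trans le_sup_left) (lb_le ?_)) h1
        intro a ha z hz
        have hz' : z ∈ Z := ⟨hle hz.1, hz.2⟩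
        obtain ⟨r, hr, i, hi, rfl⟩ := AddSubgroup.mem_sup.1 (ihj a ha.1 ha.2)
        rw [add_lie]
        exact add_mem (AddSubgroup.mem_sup_left (inv_KR gr hH (k + 1) r hr z hz'))
          (AddSubgroup.mem_sup_right (lie_mem_lb hi hz'))
    set H' := der H (g * M) with hH'
    have hle : H' ≤ H := der_le hH _
    have hgen : ∀ x, KGen gr H' k x → x ∈ R := by
      rintro x ⟨l, hl, hx, hxl⟩
      rcases Nat.lt_or_eq_of_le (Nat.succ_le_of_lt hl) with hl' | hl'
      · exact AddSubgroup.subset_closure (KLM.gen ⟨l, hl', hle hx, hxl⟩)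
      · have he : w = l := by rw [hw, ← ZMod.natCast_zmod_val l, ← hl']
        have := hcomp M x hx (he ▸ hxl)
        rwa [hM, sup_bot_eq] at this
    have hR' : KR gr H' k ≤ R := by
      refine (AddSubgroup.closure_le _).2 fun x hx => ?_
      induction hx with
      | gen h => exact hgen _ h
      | mul _ hc ihw => exact closed_KR gr H (k + 1) _ ihw _ (hgen _ hc)
    have e : krBound M (k + 1) = g * M + krBound M k := by
      show M * (krBound M k + 1) + krBound M k = g * M + krBound M k
      rw [hg, mul_comm]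
    rw [e, der_add]
    exact (ih (by omega) H' (closed_der hH _) (homog_der gr hhom _)
      (hred H' hle (closed_der hH _) (homog_der gr hhom _))).trans hR'

include gr in
/-- The generalized Kreknin theorem. -/
theorem der_eq_bot {H : AddSubgroup L} (hH : Closed H) (hhom : Homog gr H) {M : ℕ}
    (hM : adIter H (H ⊓ gr.C 0) M = ⊥) : der H (krBound M (p - 1)) = ⊥ := by
  haveI : NeZero p := ⟨hp.out.ne_zero⟩
  refine eq_bot_iff.2 ((der_le_KR gr M (p - 1) (Nat.sub_lt hp.out.pos one_pos) H hH hhom hM).trans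
    ((AddSubgroup.closure_le _).2 ?_))
  intro x hx
  obtain ⟨l, hl⟩ : ∃ l : ZMod p, p - 1 < l.val := by
    induction hx with
    | gen h => obtain ⟨l, hl, -⟩ := h; exact ⟨l, hl⟩
    | mul _ _ ih => exact ih
  have := l.val_lt
  omega

end CfsgLib.SpecialGen
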