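import Cfsg.Agent.Lib.PGroup.SpecialGen.GroupLie
import Cfsg.Agent.S0515

/-!
# Special subgroups for a coprime action of an elementary abelian group

The derived subgroup `G⁽ᵈ⁾` (and likewise a lower central term) is generated by a bounded number of
special subgroups, each lying in the corresponding term of the centralizer of many operators.
-/

set_option autoImplicit false
set_option linter.style.haveILetI false
set_option linter.unusedSectionVars false

open Subgroup
open scoped commutatorElement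

namespace CfsgLib.SpecialGen

section General

variable {X : Type} [Group X]

/-- The derived series of a subgroup, inside the ambient group. -/
def dser (M : Subgroup X) : ℕ → Subgroup X
  | 0 => M
  | i + 1 => ⁅dser M i, dser M i⁆

theorem dser_mono {M M' : Subgroup X} (h : M ≤ M') (i : ℕ) : dser M i ≤ dser M' i := by
  induction i with
  | zero => exact h
  | succ i ih => exact commutator_mono ih ih

theorem map_dser {Y : Type} [Group Y] (f : X →* Y) (M : Subgroup X) (i : ℕ) :
    (dser M i).map f = dser (M.map f) i := by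
  induction i with
  | zero => rfl
  | succ i ih => show (⁅dser M i, dser M i⁆).map f = _; rw [map_commutator, ih]; rfl

theorem derivedSeries_eq_dser (i : ℕ) : derivedSeries X i = dser (⊤ : Subgroup X) i := by
  induction i with
  | zero => rfl
  | succ i ih => rw [derivedSeries_succ, ih]; rfl

theorem le_normalizer_of_conj {A T : Subgroup X} (h : ∀ a ∈ A, ∀ t ∈ T, a * t * a⁻¹ ∈ T) :
    A ≤ normalizer (T : Set X) := by
  intro a ha
  rw [Subgroup.mem_normalizer_iff]
  exact fun w => ⟨h a ha w, fun hw => by simpa [mul_assoc] using h a⁻¹ (inv_mem ha) _ hw⟩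

theorem le_normalizer_commutator {A S T : Subgroup X} (hS : A ≤ normalizer (S : Set X))
    (hT : A ≤ normalizer (T : Set X)) : A ≤ normalizer ((⁅S, T⁆ : Subgroup X) : Set X) := by
  refine le_normalizer_of_conj fun a ha w hw => ?_
  have hle : (⁅S, T⁆).map (MulAut.conj a).toMonoidHom ≤ ⁅S, T⁆ := by
    rw [map_commutator]
    refine commutator_mono ?_ ?_ <;> rintro _ ⟨s, hs, rfl⟩
    · exact CfsgLib.Coprime.conj_mem_of_le_normalizer hS ha hs
    · exact CfsgLib.Coprime.conj_mem_of_le_normalizer hT ha hs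
  exact hle ⟨w, hw, rfl⟩

theorem le_normalizer_dser (M : Subgroup X) (i : ℕ) : M ≤ normalizer (dser M i : Set X) := by
  induction i with
  | zero => exact le_normalizer
  | succ i ih => exact le_normalizer_commutator ih ih

theorem dser_le (M : Subgroup X) (i : ℕ) : dser M i ≤ M := by
  induction i with
  | zero => exact le_rfl
  | succ i ih => exact (commutator_mono ih ih).trans (commutator_le_self M)

theorem dser_add_le {M N : Subgroup X} {e : ℕ} (h : dser M e ≤ N) (n : ℕ) :
    dser M (e + n) ≤ N.lowerCentralSeries n := by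
  induction n with
  | zero => exact h
  | succ n ih =>
    show ⁅dser M (e + n), dser M (e + n)⁆ ≤ ⁅N.lowerCentralSeries n, N⁆
    exact commutator_mono ih (ih.trans (Subgroup.lowerCentralSeries_le_self N n))

theorem dser_le_lcs (M : Subgroup X) (i : ℕ) : dser M i ≤ M.lowerCentralSeries i := by
  simpa using dser_add_le (M := M) (N := M) (e := 0) le_rfl i

theorem isSolvable_of_dser {M : Subgroup X} {n : ℕ} (h : dser M n = ⊥) : Group.IsSolvable ↥M := by
  refine ⟨⟨n, ?_⟩⟩
  rw [derivedSeries_eq_dser, ← map_eq_bot_iff_of_injective _ M.subtype_injective, map_dser,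
    ← MonoidHom.range_eq_map, range_subtype, h]

/-- If each piece of `T` is moved into `⨆ T` by commutation with `S`, then `S` normalizes `⨆ T`. -/
theorem le_normalizer_iSup {κ : Type*} {S : Subgroup X} (T : κ → Subgroup X)
    (h : ∀ j, ⁅S, T j⁆ ≤ ⨆ j, T j) : S ≤ normalizer ((⨆ j, T j : Subgroup X) : Set X) := by
  refine le_normalizer_of_conj fun a ha w hw => ?_
  have hle : (⨆ j, T j).map (MulAut.conj a).toMonoidHom ≤ ⨆ j, T j := by
    rw [Subgroup.map_iSup]
    refine iSup_le fun j => ?_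
    rintro _ ⟨t, ht, rfl⟩
    show a * t * a⁻¹ ∈ _
    have e : a * t * a⁻¹ = ⁅a, t⁆ * t := by rw [commutatorElement_def]; group
    rw [e]
    exact mul_mem (h j (commutator_mem_commutator ha ht)) (mem_iSup_of_mem j ht)
  exact hle ⟨w, hw, rfl⟩

theorem commutator_iSup_right_le {κ : Type*} {S M : Subgroup X} (T : κ → Subgroup X)
    (hT : ∀ j, T j ≤ normalizer (M : Set X)) (h : ∀ j, ⁅S, T j⁆ ≤ M) : ⁅S, ⨆ j, T j⁆ ≤ M := by
  let U : Subgroup X :=
    { carrier := {g | g ∈ normalizer (M : Set X) ∧ ∀ a ∈ S, ⁅a, g⁆ ∈ M}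
      one_mem' := ⟨one_mem _, fun a _ => by rw [commutatorElement_one_right]; exact one_mem M⟩
      mul_mem' := fun {g g'} hg hg' => ⟨mul_mem hg.1 hg'.1, fun a ha => by
        have e : ⁅a, g * g'⁆ = ⁅a, g⁆ * (g * ⁅a, g'⁆ * g⁻¹) := by
          simp only [commutatorElement_def]; group
        rw [e]
        exact mul_mem (hg.2 a ha) ((Subgroup.mem_normalizer_iff.1 hg.1 _).1 (hg'.2 a ha))⟩
      inv_mem' := fun {g} hg => ⟨inv_mem hg.1, fun a ha => by
        have e : ⁅a, g⁻¹⁆ = g⁻¹ * ⁅a, g⁆⁻¹ * g⁻¹⁻¹ := by simp only [commutatorElement_def]; group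
        rw [e]
        exact (Subgroup.mem_normalizer_iff.1 (inv_mem hg.1) _).1 (inv_mem (hg.2 a ha))⟩ }
  have hle : ⨆ j, T j ≤ U := iSup_le fun j g hg =>
    ⟨hT j hg, fun a ha => h j (commutator_mem_commutator ha hg)⟩
  exact commutator_le.2 fun a ha g hg => (hle hg).2 a ha

theorem commutator_iSup_le {ι κ : Type*} {M : Subgroup X} (S : ι → Subgroup X) (T : κ → Subgroup X)
    (hS : ∀ i, S i ≤ normalizer (M : Set X)) (hT : ∀ j, T j ≤ normalizer (M : Set X))
    (h : ∀ i j, ⁅S i, T j⁆ ≤ M) : ⁅⨆ i, S i, ⨆ j, T j⁆ ≤ M := by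
  rw [commutator_comm]
  refine commutator_iSup_right_le S hS fun i => ?_
  rw [commutator_comm]
  exact commutator_iSup_right_le T hT (h i)

theorem card_mul_card_le [Finite X] {A D₁ D₂ : Subgroup X} (h₁ : D₁ ≤ A) (h₂ : D₂ ≤ A) :
    Nat.card D₁ * Nat.card D₂ ≤ Nat.card (D₁ ⊓ D₂ : Subgroup X) * Nat.card A := by
  have hrel : ∀ {U V : Subgroup X}, U ≤ V → Nat.card V = Nat.card U * U.relIndex V := by
    intro U V hUV
    rw [Subgroup.relIndex, ← Nat.card_congr (subgroupOfEquivOfLe hUV).toEquiv, card_mul_index]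
  have e1 := hrel (inf_le_left : D₁ ⊓ D₂ ≤ D₁)
  have e2 := hrel h₂
  rw [inf_relIndex_left] at e1
  have hle : D₂.relIndex D₁ ≤ D₂.relIndex A :=
    relIndex_le_of_le_right h₁ (by
      intro h0
      rw [h0, mul_zero] at e2
      exact Nat.card_pos.ne' e2)
  rw [e1, e2]
  calc Nat.card ↥(D₁ ⊓ D₂) * D₂.relIndex D₁ * Nat.card ↥D₂
      ≤ Nat.card ↥(D₁ ⊓ D₂) * D₂.relIndex A * Nat.card ↥D₂ :=
        Nat.mul_le_mul_right _ (Nat.mul_le_mul_left _ hle)
    _ = _ := by ring

end General

/-! ### The two families -/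

/-- The hyperplanes. -/
abbrev Hyp {X : Type} [Group X] (p : ℕ) (A : Subgroup X) : Type :=
  {B : Subgroup X // B ≤ A ∧ Nat.card B * p = Nat.card A}

theorem card_hyp_le {X : Type} [Group X] [Finite X] (p : ℕ) (A : Subgroup X) :
    Nat.card (Hyp p A) ≤ 2 ^ Nat.card A := by
  haveI : Fintype ↥A := Fintype.ofFinite _
  have h := Nat.card_le_card_of_injective (fun B : Hyp p A => ((B.1.subgroupOf A : Subgroup ↥A) : Set ↥A))
    (fun B B' e => by
      have e' : B.1.subgroupOf A = B'.1.subgroupOf A := SetLike.coe_injective e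
      rw [subgroupOf_inj, inf_eq_left.2 B.2.1, inf_eq_left.2 B'.2.1] at e'
      exact Subtype.ext e')
  rwa [Nat.card_eq_fintype_card (α := Set ↥A), Fintype.card_set, ← Nat.card_eq_fintype_card] at h

/-- The indices of the specials of the derived series. -/
def DIdx (T : Type) : ℕ → Type
  | 0 => T
  | i + 1 => DIdx T i × DIdx T i × T

/-- The indices of the specials of the lower central series. -/
def LIdx (T : Type) : ℕ → Type
  | 0 => T
  | i + 1 => LIdx T i × T × T

/-- The bound on the number of specials. -/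
def numSpecial (n : ℕ) : ℕ → ℕ
  | 0 => n
  | i + 1 => (numSpecial n i + n) * (numSpecial n i + n) * n

theorem card_DIdx (T : Type) [Finite T] (n : ℕ) (hn : Nat.card T ≤ n) :
    ∀ i, Finite (DIdx T i) ∧ Nat.card (DIdx T i) ≤ numSpecial n i := by
  intro i
  induction i with
  | zero => exact ⟨‹Finite T›, hn⟩
  | succ i ih =>
    haveI := ih.1
    refine ⟨inferInstanceAs (Finite (DIdx T i × DIdx T i × T)), ?_⟩
    show Nat.card (DIdx T i × DIdx T i × T) ≤ _
    rw [Nat.card_prod, Nat.card_prod, ← mul_assoc]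
    exact Nat.mul_le_mul (Nat.mul_le_mul (ih.2.trans (Nat.le_add_right _ _))
      (ih.2.trans (Nat.le_add_right _ _))) hn

theorem card_LIdx (T : Type) [Finite T] (n : ℕ) (hn : Nat.card T ≤ n) :
    ∀ i, Finite (LIdx T i) ∧ Nat.card (LIdx T i) ≤ numSpecial n i := by
  intro i
  induction i with
  | zero => exact ⟨‹Finite T›, hn⟩
  | succ i ih =>
    haveI := ih.1
    refine ⟨inferInstanceAs (Finite (LIdx T i × T × T)), ?_⟩
    show Nat.card (LIdx T i × T × T) ≤ _
    rw [Nat.card_prod, Nat.card_prod, ← mul_assoc]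
    exact Nat.mul_le_mul (Nat.mul_le_mul (ih.2.trans (Nat.le_add_right _ _))
      (hn.trans (Nat.le_add_left _ _))) hn

variable {X : Type} [Group X] {p : ℕ} {A G : Subgroup X}

/-- The part of `G` centralized by a hyperplane. -/
def cen (G : Subgroup X) (B : Hyp p A) : Subgroup X := G ⊓ centralizer (B.1 : Set X)

/-- The specials of the derived series. -/
def dsp (G : Subgroup X) : (i : ℕ) → DIdx (Hyp p A) i → Subgroup X
  | 0, B => cen G B
  | i + 1, x => ⁅dsp G i x.1, dsp G i x.2.1⁆ ⊓ centralizer (x.2.2.1 : Set X)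

/-- The specials of the lower central series. -/
def lsp (G : Subgroup X) : (i : ℕ) → LIdx (Hyp p A) i → Subgroup X
  | 0, B => cen G B
  | i + 1, x => ⁅lsp G i x.1, cen G x.2.1⁆ ⊓ centralizer (x.2.2.1 : Set X)

theorem cen_le (B : Hyp p A) : cen G B ≤ G := inf_le_left

theorem dsp_le : ∀ (i : ℕ) (x : DIdx (Hyp p A) i), dsp G i x ≤ dser G i
  | 0, B => inf_le_left
  | i + 1, x => inf_le_left.trans (commutator_mono (dsp_le i x.1) (dsp_le i x.2.1))

theorem lsp_le : ∀ (i : ℕ) (x : LIdx (Hyp p A) i), lsp G i x ≤ G.lowerCentralSeries i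
  | 0, B => inf_le_left
  | i + 1, x => inf_le_left.trans (commutator_mono (lsp_le i x.1) (cen_le x.2.1))

theorem exists_dsp_pred : ∀ (i : ℕ) (x : DIdx (Hyp p A) (i + 1)),
    ∃ y : DIdx (Hyp p A) i, dsp G (i + 1) x ≤ dsp G i y
  | 0, x => ⟨x.2.2, le_inf (inf_le_left.trans ((commutator_mono (cen_le x.1) (cen_le x.2.1)).trans
      (commutator_le_self G))) inf_le_right⟩
  | i + 1, x => by
    obtain ⟨y, hy⟩ := exists_dsp_pred i x.1
    obtain ⟨z, hz⟩ := exists_dsp_pred i x.2.1
    exact ⟨(y, z, x.2.2), inf_le_inf_right _ (commutator_mono hy hz)⟩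

theorem exists_lsp_pred : ∀ (i : ℕ) (x : LIdx (Hyp p A) (i + 1)),
    ∃ y : LIdx (Hyp p A) i, lsp G (i + 1) x ≤ lsp G i y
  | 0, x => ⟨x.2.2, le_inf (inf_le_left.trans ((commutator_mono (cen_le x.1) (cen_le x.2.1)).trans
      (commutator_le_self G))) inf_le_right⟩
  | i + 1, x => by
    obtain ⟨y, hy⟩ := exists_lsp_pred i x.1
    exact ⟨(y, x.2.1, x.2.2), inf_le_inf_right _ (commutator_mono hy le_rfl)⟩

theorem exists_lsp_le_cen : ∀ (i : ℕ) (x : LIdx (Hyp p A) i), ∃ B : Hyp p A, lsp G i x ≤ cen G B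
  | 0, B => ⟨B, le_rfl⟩
  | i + 1, x => by
    obtain ⟨y, hy⟩ := exists_lsp_pred (G := G) i x
    obtain ⟨B, hB⟩ := exists_lsp_le_cen i y
    exact ⟨B, hy.trans hB⟩

section Invariant

variable (hA : Cfsg.IsElementaryAbelian p A) (hAG : A ≤ normalizer (G : Set X))

include hA in
theorem le_normalizer_centralizer_hyp (B : Hyp p A) :
    A ≤ normalizer (centralizer (B.1 : Set X) : Set X) :=
  haveI := hA.1
  ((le_centralizer A).trans (centralizer_le B.2.1)).trans le_normalizer

include hA hAG in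
theorem le_normalizer_cen (B : Hyp p A) : A ≤ normalizer (cen G B : Set X) :=
  CfsgLib.Coprime.inf_le_normalizer hAG (le_normalizer_centralizer_hyp hA B)

include hA hAG in
theorem le_normalizer_dsp : ∀ (i : ℕ) (x : DIdx (Hyp p A) i), A ≤ normalizer (dsp G i x : Set X)
  | 0, B => le_normalizer_cen hA hAG B
  | i + 1, x => CfsgLib.Coprime.inf_le_normalizer
      (le_normalizer_commutator (le_normalizer_dsp i x.1) (le_normalizer_dsp i x.2.1))
      (le_normalizer_centralizer_hyp hA x.2.2)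

include hA hAG in
theorem le_normalizer_lsp : ∀ (i : ℕ) (x : LIdx (Hyp p A) i), A ≤ normalizer (lsp G i x : Set X)
  | 0, B => le_normalizer_cen hA hAG B
  | i + 1, x => CfsgLib.Coprime.inf_le_normalizer
      (le_normalizer_commutator (le_normalizer_lsp i x.1) (le_normalizer_cen hA hAG x.2.1))
      (le_normalizer_centralizer_hyp hA x.2.2)

variable [Finite X] [hp : Fact p.Prime] (hA2 : p ^ 2 ≤ Nat.card A) (hG : (Nat.card G).Coprime p)

include hA hA2 hG in
theorem le_iSup_centralizers {T : Subgroup X} (hTG : T ≤ G) (hT : A ≤ normalizer (T : Set X)) :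
    T ≤ ⨆ B : Hyp p A, T ⊓ centralizer (B.1 : Set X) :=
  le_of_hyperplane_centralizers_le hA hA2 hT (Nat.Coprime.coprime_dvd_left (card_dvd_of_le hTG) hG)
    fun B hB hcard => le_iSup (fun B : Hyp p A => T ⊓ centralizer (B.1 : Set X)) ⟨B, hB, hcard⟩

include hA hAG hA2 hG in
theorem iSup_dsp : ∀ i : ℕ, ⨆ x, dsp (p := p) (A := A) G i x = dser G i := by
  intro i
  refine le_antisymm (iSup_le (dsp_le i)) ?_
  induction i with
  | zero => exact le_iSup_centralizers hA hA2 hG le_rfl hAG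
  | succ i ih =>
    set M := ⨆ x, dsp (p := p) (A := A) G (i + 1) x with hM
    have hpair : ∀ x y, ⁅dsp G i x, dsp G i y⁆ ≤ M := fun x y =>
      (le_iSup_centralizers hA hA2 hG
        (((commutator_mono (dsp_le i x) (dsp_le i y)).trans (commutator_le_self _)).trans (dser_le G i))
        (le_normalizer_commutator (le_normalizer_dsp hA hAG i x) (le_normalizer_dsp hA hAG i y))).trans
        (iSup_le fun B => le_iSup (dsp G (i + 1)) (x, y, B))
    have hnorm : ∀ z, dsp G i z ≤ normalizer (M : Set X) := fun z =>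
      le_normalizer_iSup _ fun w => by
        obtain ⟨w', hw'⟩ := exists_dsp_pred (G := G) i w
        exact (commutator_mono le_rfl hw').trans (hpair z w')
    exact (commutator_mono ih ih).trans (commutator_iSup_le _ _ hnorm hnorm hpair)

include hA hAG hA2 hG in
theorem iSup_lsp : ∀ i : ℕ, ⨆ x, lsp (p := p) (A := A) G i x = G.lowerCentralSeries i := by
  intro i
  refine le_antisymm (iSup_le (lsp_le i)) ?_
  induction i with
  | zero => exact le_iSup_centralizers hA hA2 hG le_rfl hAG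
  | succ i ih =>
    set M := ⨆ x, lsp (p := p) (A := A) G (i + 1) x with hM
    have hpair : ∀ x (B : Hyp p A), ⁅lsp G i x, cen G B⁆ ≤ M := fun x B₀ =>
      (le_iSup_centralizers hA hA2 hG
        ((commutator_mono ((lsp_le i x).trans (Subgroup.lowerCentralSeries_le_self G i)) (cen_le B₀)).trans
          (commutator_le_self G))
        (le_normalizer_commutator (le_normalizer_lsp hA hAG i x) (le_normalizer_cen hA hAG B₀))).trans
        (iSup_le fun B => le_iSup (lsp G (i + 1)) (x, B₀, B))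
    have hnorm : ∀ B₀ : Hyp p A, cen G B₀ ≤ normalizer (M : Set X) := fun B₀ =>
      le_normalizer_iSup _ fun w => by
        obtain ⟨w', hw'⟩ := exists_lsp_pred (G := G) i w
        refine (commutator_mono le_rfl hw').trans ?_
        rw [commutator_comm]
        exact hpair w' B₀
    have hGN : G ≤ normalizer (M : Set X) :=
      (le_iSup_centralizers hA hA2 hG le_rfl hAG).trans (iSup_le hnorm)
    have hGsup : G ≤ ⨆ B : Hyp p A, cen G B := le_iSup_centralizers hA hA2 hG le_rfl hAG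
    refine (commutator_mono ih hGsup).trans (commutator_iSup_le _ _ (fun x => ?_) hnorm hpair)
    exact ((lsp_le i x).trans (Subgroup.lowerCentralSeries_le_self G i)).trans hGN

end Invariant

theorem le_cen_single (B : Hyp p A) {a : X} (ha : a ∈ B.1) :
    cen G B ≤ G ⊓ centralizer ({a} : Set X) :=
  inf_le_inf_left _ (centralizer_le (Set.singleton_subset_iff.2 ha))

theorem exists_dsp_operators [Finite X] : ∀ (i : ℕ) (x : DIdx (Hyp p A) i), ∃ D : Subgroup X, D ≤ A ∧
    Nat.card A ≤ Nat.card D * p ^ 2 ^ i ∧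
    ∀ a ∈ D, dsp G i x ≤ dser (G ⊓ centralizer ({a} : Set X)) i
  | 0, B => ⟨B.1, B.2.1, by rw [pow_zero, pow_one, B.2.2], fun a ha => le_cen_single B ha⟩
  | i + 1, x => by
    obtain ⟨D₁, h₁, c₁, s₁⟩ := exists_dsp_operators i x.1
    obtain ⟨D₂, h₂, c₂, s₂⟩ := exists_dsp_operators i x.2.1
    refine ⟨D₁ ⊓ D₂, inf_le_left.trans h₁, ?_, fun a ha =>
      inf_le_left.trans (commutator_mono (s₁ a ha.1) (s₂ a ha.2))⟩
    have h := Nat.mul_le_mul c₁ c₂
    have h' := card_mul_card_le h₁ h₂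
    refine Nat.le_of_mul_le_mul_right ?_ (Nat.card_pos : 0 < Nat.card A)
    calc Nat.card A * Nat.card A ≤ Nat.card D₁ * p ^ 2 ^ i * (Nat.card D₂ * p ^ 2 ^ i) := h
      _ = Nat.card D₁ * Nat.card D₂ * p ^ 2 ^ (i + 1) := by rw [pow_succ, pow_mul]; ring
      _ ≤ Nat.card ↥(D₁ ⊓ D₂) * Nat.card A * p ^ 2 ^ (i + 1) := Nat.mul_le_mul_right _ h'
      _ = Nat.card ↥(D₁ ⊓ D₂) * p ^ 2 ^ (i + 1) * Nat.card A := by ring

theorem exists_lsp_operators [Finite X] : ∀ (i : ℕ) (x : LIdx (Hyp p A) i), ∃ D : Subgroup X, D ≤ A ∧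
    Nat.card A ≤ Nat.card D * p ^ (i + 1) ∧
    ∀ a ∈ D, lsp G i x ≤ (G ⊓ centralizer ({a} : Set X)).lowerCentralSeries i
  | 0, B => ⟨B.1, B.2.1, by rw [zero_add, pow_one, B.2.2], fun a ha => le_cen_single B ha⟩
  | i + 1, x => by
    obtain ⟨D₁, h₁, c₁, s₁⟩ := exists_lsp_operators i x.1
    refine ⟨D₁ ⊓ x.2.1.1, inf_le_left.trans h₁, ?_, fun a ha =>
      inf_le_left.trans (commutator_mono (s₁ a ha.1) (le_cen_single x.2.1 ha.2))⟩
    have h := Nat.mul_le_mul c₁ x.2.1.2.2.ge
    have h' := card_mul_card_le h₁ x.2.1.2.1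
    refine Nat.le_of_mul_le_mul_right ?_ (Nat.card_pos : 0 < Nat.card A)
    calc Nat.card A * Nat.card A ≤ Nat.card D₁ * p ^ (i + 1) * (Nat.card x.2.1.1 * p) := h
      _ = Nat.card D₁ * Nat.card x.2.1.1 * p ^ (i + 1 + 1) := by ring
      _ ≤ Nat.card ↥(D₁ ⊓ x.2.1.1) * Nat.card A * p ^ (i + 1 + 1) := Nat.mul_le_mul_right _ h'
      _ = Nat.card ↥(D₁ ⊓ x.2.1.1) * p ^ (i + 1 + 1) * Nat.card A := by ring

theorem exists_common_operator [Finite X] [hp : Fact p.Prime] {k e : ℕ} (hk : Nat.card A = p ^ k)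
    (he : e + 2 ≤ k) {D : Subgroup X} (hD : D ≤ A) (hc : Nat.card A ≤ Nat.card D * p ^ e)
    (B : Hyp p A) : ∃ a, a ∈ D ∧ a ∈ B.1 ∧ a ∈ A ∧ a ≠ 1 := by
  have hne : D ⊓ B.1 ≠ ⊥ := by
    intro h0
    have h' := card_mul_card_le hD B.2.1
    rw [h0, card_bot, one_mul] at h'
    have h := Nat.mul_le_mul hc B.2.2.ge
    have hlt : Nat.card A * p ^ (e + 1) < Nat.card A * Nat.card A := by
      refine Nat.mul_lt_mul_of_pos_left ?_ Nat.card_pos
      rw [hk]
      exact Nat.pow_lt_pow_right hp.out.one_lt (by omega)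
    have hge : Nat.card A * Nat.card A ≤ Nat.card A * p ^ (e + 1) :=
      calc Nat.card A * Nat.card A ≤ Nat.card D * p ^ e * (Nat.card B.1 * p) := h
        _ = Nat.card D * Nat.card B.1 * p ^ (e + 1) := by ring
        _ ≤ Nat.card A * p ^ (e + 1) := Nat.mul_le_mul_right _ h'
    omega
  obtain ⟨a, ha, ha1⟩ : ∃ a ∈ D ⊓ B.1, a ≠ 1 := by
    by_contra h
    push Not at h
    exact hne ((Subgroup.eq_bot_iff_forall _).2 h)
  exact ⟨a, ha.1, ha.2, hD ha.1, ha1⟩

/-! ### The two theorems -/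

/-- The bound. -/
def specialBound (p k c N : ℕ) : ℕ :=
  (Finset.range (N + 1)).sup fun n => chainBound p (n * c) (n * c) k

theorem chainBound_le_specialBound {p k c N n : ℕ} (h : n ≤ N) :
    chainBound p (n * c) (n * c) k ≤ specialBound p k c N :=
  Finset.le_sup (f := fun n => chainBound p (n * c) (n * c) k) (Finset.mem_range.2 (Nat.lt_succ_of_le h))

theorem isSolvable_of_fixed_dser [Finite X] [hp : Fact p.Prime] {k : ℕ} (hA : Cfsg.IsElementaryAbelian p A)
    (hk : Nat.card A = p ^ k) (hk3 : 3 ≤ k) (hAG : A ≤ normalizer (G : Set X))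
    (hG : (Nat.card G).Coprime p)
    (h : ∀ a ∈ A, a ≠ 1 → ∃ n, dser (G ⊓ centralizer ({a} : Set X)) n = ⊥) : Group.IsSolvable ↥G :=
  Cfsg.Agent.S0515.result p A G hA.1 hA.2 (hk ▸ Nat.pow_le_pow_right hp.out.pos hk3) hG hAG
    fun a ha ha1 => isSolvable_of_dser (h a ha ha1).choose_spec

theorem le_normalizer_dser' (hAG : A ≤ normalizer (G : Set X)) :
    ∀ i, A ≤ normalizer (dser G i : Set X)
  | 0 => hAG
  | i + 1 => le_normalizer_commutator (le_normalizer_dser' hAG i) (le_normalizer_dser' hAG i)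

/-- The derived case. -/
theorem dser_lowerCentralSeries_eq_bot [Finite X] [hp : Fact p.Prime] {k c d : ℕ}
    (hd : 2 ^ d + 2 ≤ k) (hA : Cfsg.IsElementaryAbelian p A) (hk : Nat.card A = p ^ k)
    (hAG : A ≤ normalizer (G : Set X)) (hG : (Nat.card G).Coprime p)
    (h : ∀ a ∈ A, a ≠ 1 → (dser (G ⊓ centralizer ({a} : Set X)) d).lowerCentralSeries c = ⊥) :
    (dser G d).lowerCentralSeries (specialBound p k c (numSpecial (2 ^ p ^ k) d)) = ⊥ := by
  have hd1 : 1 ≤ 2 ^ d := Nat.one_le_two_pow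
  have hA2 : p ^ 2 ≤ Nat.card A := hk ▸ Nat.pow_le_pow_right hp.out.pos (by omega)
  have hfin := card_DIdx (Hyp p A) (2 ^ p ^ k) (hk ▸ card_hyp_le p A) d
  haveI := hfin.1
  letI : Fintype (DIdx (Hyp p A) d) := Fintype.ofFinite _
  have hsol : Group.IsSolvable ↥G := isSolvable_of_fixed_dser hA hk (by omega) hAG hG fun a ha ha1 =>
    ⟨d + c, eq_bot_iff.2 ((dser_add_le le_rfl c).trans (h a ha ha1).le)⟩
  have hgen := iSup_dsp hA hAG hA2 hG d
  have hmain := lowerCentralSeries_eq_bot_of_special (c := c) (H := dser G d) hA hk (by omega)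
    (le_normalizer_dser' hAG d)
    (Nat.Coprime.coprime_dvd_left (card_dvd_of_le (dser_le G d)) hG)
    (CfsgLib.Coprime.isSolvable_of_le (dser_le G d) hsol)
    (dsp G d) (le_normalizer_dsp hA hAG d) hgen ?_ ?_
  · rw [eq_bot_iff] at hmain ⊢
    refine le_trans (Subgroup.lowerCentralSeries_antitone _ (chainBound_le_specialBound ?_)) hmain
    rw [← Nat.card_eq_fintype_card]
    exact hfin.2
  · intro x y B hB hcard
    obtain ⟨z, hz⟩ := exists_dsp_pred (G := G) d (x, y, ⟨B, hB, hcard⟩)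
    exact ⟨z, hz⟩
  · intro x B hB hcard
    obtain ⟨D, hDA, hDc, hDs⟩ := exists_dsp_operators (G := G) d x
    obtain ⟨a, haD, haB, haA, ha1⟩ := exists_common_operator hk hd hDA hDc ⟨B, hB, hcard⟩
    refine ⟨_, hDs a haD, fun u hu s hs => ?_, h a haA ha1⟩
    have hu' : u ∈ G ⊓ centralizer ({a} : Set X) :=
      ⟨dser_le G d hu.1, centralizer_le (Set.singleton_subset_iff.2 haB) hu.2⟩
    rw [commutatorElement_def]
    exact mul_mem ((Subgroup.mem_normalizer_iff.1 (le_normalizer_dser _ d hu') s).1 hs) (inv_mem hs)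

/-- The lower central case. -/
theorem lcs_lowerCentralSeries_eq_bot [Finite X] [hp : Fact p.Prime] {k c : ℕ}
    (hk3 : 3 ≤ k) (hA : Cfsg.IsElementaryAbelian p A) (hk : Nat.card A = p ^ k)
    (hAG : A ≤ normalizer (G : Set X)) (hG : (Nat.card G).Coprime p)
    (h : ∀ a ∈ A, a ≠ 1 →
      ((G ⊓ centralizer ({a} : Set X)).lowerCentralSeries (k - 3)).lowerCentralSeries c = ⊥) :
    (G.lowerCentralSeries (k - 3)).lowerCentralSeries
      (specialBound p k c (numSpecial (2 ^ p ^ k) (k - 3))) = ⊥ := by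
  have hA2 : p ^ 2 ≤ Nat.card A := hk ▸ Nat.pow_le_pow_right hp.out.pos (by omega)
  have hfin := card_LIdx (Hyp p A) (2 ^ p ^ k) (hk ▸ card_hyp_le p A) (k - 3)
  haveI := hfin.1
  letI : Fintype (LIdx (Hyp p A) (k - 3)) := Fintype.ofFinite _
  have hsol : Group.IsSolvable ↥G := isSolvable_of_fixed_dser hA hk hk3 hAG hG fun a ha ha1 =>
    ⟨k - 3 + c, eq_bot_iff.2 ((dser_add_le (dser_le_lcs _ _) c).trans (h a ha ha1).le)⟩
  have hgen := iSup_lsp hA hAG hA2 hG (k - 3)
  have hAH : A ≤ normalizer (G.lowerCentralSeries (k - 3) : Set X) := by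
    generalize k - 3 = i
    induction i with
    | zero => exact hAG
    | succ i ih => exact le_normalizer_commutator ih hAG
  have hmain := lowerCentralSeries_eq_bot_of_special (c := c) (H := G.lowerCentralSeries (k - 3)) hA hk
    (by omega) hAH
    (Nat.Coprime.coprime_dvd_left (card_dvd_of_le (Subgroup.lowerCentralSeries_le_self G _)) hG)
    (CfsgLib.Coprime.isSolvable_of_le (Subgroup.lowerCentralSeries_le_self G _) hsol)
    (lsp G (k - 3)) (le_normalizer_lsp hA hAG (k - 3)) hgen ?_ ?_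
  · rw [eq_bot_iff] at hmain ⊢
    refine le_trans (Subgroup.lowerCentralSeries_antitone _ (chainBound_le_specialBound ?_)) hmain
    rw [← Nat.card_eq_fintype_card]
    exact hfin.2
  · intro x y B hB hcard
    obtain ⟨B₁, hB₁⟩ := exists_lsp_le_cen (G := G) (k - 3) y
    obtain ⟨z, hz⟩ := exists_lsp_pred (G := G) (k - 3) (x, B₁, ⟨B, hB, hcard⟩)
    exact ⟨z, (inf_le_inf_right _ (commutator_mono le_rfl hB₁)).trans hz⟩
  · intro x B hB hcard
    obtain ⟨D, hDA, hDc, hDs⟩ := exists_lsp_operators (G := G) (k - 3) x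
    obtain ⟨a, haD, haB, haA, ha1⟩ :=
      exists_common_operator hk (by omega) hDA hDc ⟨B, hB, hcard⟩
    refine ⟨_, hDs a haD, fun u hu s hs => ?_, h a haA ha1⟩
    have hu' : u ∈ G ⊓ centralizer ({a} : Set X) :=
      ⟨Subgroup.lowerCentralSeries_le_self G _ hu.1, centralizer_le (Set.singleton_subset_iff.2 haB) hu.2⟩
    rw [commutatorElement_def]
    exact mul_mem ((Subgroup.mem_normalizer_iff.1
      (Subgroup.self_le_normalizer_lowerCentralSeries _ _ hu') s).1 hs) (inv_mem hs)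

end CfsgLib.SpecialGen
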