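import Cfsg.Agent.Lib.PGroup.SpecialGen.Specials
import Mathlib.GroupTheory.SemidirectProduct

/-!
# Passing to the semidirect product
-/

set_option autoImplicit false
set_option linter.style.haveILetI false
set_option linter.unusedSectionVars false

open Subgroup

namespace CfsgLib.SpecialGen

variable {G : Type} [Group G] (A : Subgroup (MulAut G))

/-- The ambient group. -/
abbrev Amb : Type := G ⋊[A.subtype] ↥A

/-- The group inside the ambient group. -/
abbrev ambG : Subgroup (Amb A) := (⊤ : Subgroup G).map (SemidirectProduct.inl : G →* Amb A)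

/-- The operators inside the ambient group. -/
abbrev ambA : Subgroup (Amb A) := (SemidirectProduct.inr : ↥A →* Amb A).range

theorem finite_amb [Finite G] : Finite (Amb A) :=
  haveI : Finite (MulAut G) :=
    Finite.of_injective (fun e : MulAut G => (e : G → G)) DFunLike.coe_injective
  Finite.of_equiv _ SemidirectProduct.equivProd.symm

theorem ambA_elementary {p : ℕ} (hA : Cfsg.IsElementaryAbelian p A) :
    Cfsg.IsElementaryAbelian p (ambA A) := by
  haveI := hA.1
  refine ⟨⟨⟨?_⟩⟩, ?_⟩
  · rintro ⟨_, a, rfl⟩ ⟨_, b, rfl⟩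
    refine Subtype.ext ?_
    show SemidirectProduct.inr a * SemidirectProduct.inr b = SemidirectProduct.inr b * SemidirectProduct.inr a
    rw [← map_mul, ← map_mul, mul_comm' a b]
  · rintro _ ⟨a, rfl⟩
    rw [← map_pow, show a ^ p = 1 from Subtype.ext (hA.2 _ a.2), map_one]

theorem card_ambA : Nat.card (ambA A) = Nat.card A :=
  Nat.card_congr (MonoidHom.ofInjective SemidirectProduct.inr_injective).toEquiv.symm

theorem card_ambG : Nat.card (ambG A) = Nat.card G := by
  rw [card_map_of_injective SemidirectProduct.inl_injective, card_top]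

theorem ambA_le_normalizer : ambA A ≤ normalizer (ambG A : Set (Amb A)) := by
  refine le_normalizer_of_conj ?_
  rintro _ ⟨a, rfl⟩ _ ⟨g, -, rfl⟩
  exact ⟨(A.subtype a) g, mem_top _, by rw [SemidirectProduct.inl_aut, map_inv]⟩

theorem ambG_inf_centralizer (a : ↥A) :
    ambG A ⊓ centralizer ({SemidirectProduct.inr a} : Set (Amb A)) =
      ((a : MulAut G).toMonoidHom.eqLocus (MonoidHom.id G)).map SemidirectProduct.inl := by
  ext x
  constructor
  · rintro ⟨⟨g, -, rfl⟩, hx⟩
    refine ⟨g, ?_, rfl⟩
    show (a : MulAut G) g = g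
    have h := mem_centralizer_singleton_iff.1 hx
    have e := SemidirectProduct.inl_aut (φ := A.subtype) a g
    refine SemidirectProduct.inl_injective (φ := A.subtype) (e.trans ?_)
    rw [← h, map_inv, mul_inv_cancel_right]
  · rintro ⟨g, hg, rfl⟩
    refine ⟨mem_map_of_mem _ (mem_top g), mem_centralizer_singleton_iff.2 ?_⟩
    have e := SemidirectProduct.inl_aut (φ := A.subtype) a g
    rw [show (A.subtype a) g = g from hg, map_inv, eq_mul_inv_iff_mul_eq] at e
    exact e

theorem inl_comp_subtype_range (M : Subgroup G) :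
    (⊤ : Subgroup ↥M).map ((SemidirectProduct.inl : G →* Amb A).comp M.subtype) =
      M.map SemidirectProduct.inl := by
  rw [← Subgroup.map_map, ← MonoidHom.range_eq_map, range_subtype]

theorem bound_derived {p k c d : ℕ} (hp : p.Prime) (hd : 2 ^ d + 2 ≤ k) [Finite G]
    (hG : (Nat.card G).Coprime p) (hA : Cfsg.IsElementaryAbelian p A) (hk : Nat.card ↥A = p ^ k)
    (h : ∀ a ∈ A, a ≠ 1 → (derivedSeries ↥((a : MulAut G).toMonoidHom.eqLocus (MonoidHom.id G)) d).lowerCentralSeries c = ⊥) :
    (derivedSeries G d).lowerCentralSeries (specialBound p k c (numSpecial (2 ^ p ^ k) d)) = ⊥ := by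
  haveI : Fact p.Prime := ⟨hp⟩
  haveI := finite_amb A
  have hmain := dser_lowerCentralSeries_eq_bot (X := Amb A) (c := c) hd (ambA_elementary A hA)
    ((card_ambA A).trans hk) (ambA_le_normalizer A) (by rw [card_ambG]; exact hG) (by
      rintro _ ⟨a, rfl⟩ ha1
      have hne : (a : MulAut G) ≠ 1 := fun e => ha1 (by rw [show a = 1 from Subtype.ext e, map_one])
      rw [ambG_inf_centralizer, ← inl_comp_subtype_range, ← map_dser, ← derivedSeries_eq_dser,
        ← Subgroup.map_lowerCentralSeries, h a a.2 hne, Subgroup.map_bot])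
  rw [← map_eq_bot_iff_of_injective _ (SemidirectProduct.inl_injective (φ := A.subtype)),
    Subgroup.map_lowerCentralSeries, derivedSeries_eq_dser, map_dser]
  exact hmain

theorem bound_lcs {p k c : ℕ} (hp : p.Prime) (hk3 : 3 ≤ k) [Finite G]
    (hG : (Nat.card G).Coprime p) (hA : Cfsg.IsElementaryAbelian p A) (hk : Nat.card ↥A = p ^ k)
    (h : ∀ a ∈ A, a ≠ 1 → ((⊤ : Subgroup ↥((a : MulAut G).toMonoidHom.eqLocus (MonoidHom.id G))).lowerCentralSeries (k - 3)).lowerCentralSeries c = ⊥) :
    ((⊤ : Subgroup G).lowerCentralSeries (k - 3)).lowerCentralSeries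
      (specialBound p k c (numSpecial (2 ^ p ^ k) (k - 3))) = ⊥ := by
  haveI : Fact p.Prime := ⟨hp⟩
  haveI := finite_amb A
  have hmain := lcs_lowerCentralSeries_eq_bot (X := Amb A) (c := c) hk3 (ambA_elementary A hA)
    ((card_ambA A).trans hk) (ambA_le_normalizer A) (by rw [card_ambG]; exact hG) (by
      rintro _ ⟨a, rfl⟩ ha1
      have hne : (a : MulAut G) ≠ 1 := fun e => ha1 (by rw [show a = 1 from Subtype.ext e, map_one])
      rw [ambG_inf_centralizer, ← inl_comp_subtype_range, ← Subgroup.map_lowerCentralSeries,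
        ← Subgroup.map_lowerCentralSeries, h a a.2 hne, Subgroup.map_bot])
  rw [← map_eq_bot_iff_of_injective _ (SemidirectProduct.inl_injective (φ := A.subtype)),
    Subgroup.map_lowerCentralSeries, Subgroup.map_lowerCentralSeries]
  exact hmain

end CfsgLib.SpecialGen
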